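import Cfsg.Agent.Lib.Signalizer74.Two.Basic

/-!
# Two primes: a maximal member with both cores
-/

set_option autoImplicit false
set_option linter.style.haveILetI false
set_option linter.unusedSectionVars false

namespace CfsgLib.Signalizer74

open Subgroup CfsgLib.Signalizer
open scoped Pointwise commutatorElement

variable {G : Type*} [Group G] [Finite G] {p q r : ℕ} [hp : Fact p.Prime] {A : Subgroup G}
  {θ : G → Subgroup G} {D H K L M U W Z : Subgroup G}

/-- The operators whose commutators with `Z` fall into `C`. -/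
def sideSub (A C Z : Subgroup G) (hC : A ≤ normalizer (C : Set G)) : Subgroup G where
  carrier := {x | x ∈ A ∧ ∀ z ∈ Z, ⁅z, x⁆ ∈ C}
  mul_mem' := by
    rintro x y ⟨hx, hx'⟩ ⟨hy, hy'⟩
    refine ⟨A.mul_mem hx hy, fun z hz => ?_⟩
    have e : ⁅z, x * y⁆ = ⁅z, x⁆ * (x * ⁅z, y⁆ * x⁻¹) := by
      simp only [commutatorElement_def]; group
    rw [e]
    exact C.mul_mem (hx' z hz) (CfsgLib.Coprime.mem_normalizer_conj (hC hx) (hy' z hz))
  one_mem' := ⟨A.one_mem, fun z _ => by simp⟩
  inv_mem' := by
    rintro x ⟨hx, hx'⟩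
    refine ⟨A.inv_mem hx, fun z hz => ?_⟩
    have e : ⁅z, x⁻¹⁆ = x⁻¹ * ⁅z, x⁆⁻¹ * x := by
      simp only [commutatorElement_def]; group
    rw [e]
    exact CfsgLib.Coprime.mem_normalizer_conj' (hC hx) (C.inv_mem (hx' z hz))

namespace Minimal

omit [Finite G] hp in
/-- A maximal member with both cores. -/
structure Mixed (p : ℕ) (A : Subgroup G) (θ : G → Subgroup G) (q r : ℕ) (M : Subgroup G) :
    Prop where
  max : IsMax p A θ M
  core_q : core q M ≠ ⊥
  core_r : core r M ≠ ⊥

omit [Finite G] hp in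
theorem Mixed.symm (m : Mixed p A θ q r M) : Mixed p A θ r q M := ⟨m.max, m.core_r, m.core_q⟩

variable (h : Minimal p A θ) (d : TwoPrimes A θ q r)
include h d

theorem core_inf_le_core (m : Mixed p A θ q r M) (hL : IsMax p A θ L)
    (hN : ∀ Y ∈ Cfsg.signalizerFamily p A θ,
      Y ≤ normalizer ((core q M ⊓ L : Subgroup G) : Set G) → Y ≤ M) :
    core r M ⊓ L ≤ core r L := by
  haveI := h.fact_q d
  haveI := h.fact_r d
  have hV : A ≤ normalizer ((core q M ⊓ L : Subgroup G) : Set G) :=
    member_normalized (member_inf (h.core_member m.max.1) (member_normalized hL.1))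
  have hLN : L ⊓ normalizer ((core q M ⊓ L : Subgroup G) : Set G) ≤ M :=
    hN _ (member_inf hL.1 (hV.trans le_normalizer)) inf_le_right
  refine (le_core'_of_normalizer_le (P := core q M ⊓ L) hL.1.1 (isPGroup_core.to_le inf_le_left) inf_le_right inf_le_right
    (not_dvd_of_isPGroup (isPGroup_core.to_le inf_le_left) d.ne) ?_ ?_).trans (h.core'_le_core d.symm hL.1)
  · exact (inf_le_left.trans ((commutator_eq_bot_iff_le_centralizer.mp
      (commutator_core_eq_bot d.ne.symm)).trans (centralizer_le fun _ hx => hx.1))).trans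
        (centralizer_le_normalizer _)
  · exact CfsgLib.Signalizer74.le_normalizer_inf (hLN.trans le_normalizer_core)
      (inf_le_left.trans le_normalizer)

/-- A maximal member meeting both cores of `M` in subgroups with normalizers in `M` is `M`. -/
theorem eq_of_meets (m : Mixed p A θ q r M) (hL : IsMax p A θ L) (hU1 : core r M ⊓ L ≠ ⊥)
    (hV1 : core q M ⊓ L ≠ ⊥)
    (hNU : ∀ Y ∈ Cfsg.signalizerFamily p A θ,
      Y ≤ normalizer ((core r M ⊓ L : Subgroup G) : Set G) → Y ≤ M)
    (hNV : ∀ Y ∈ Cfsg.signalizerFamily p A θ,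
      Y ≤ normalizer ((core q M ⊓ L : Subgroup G) : Set G) → Y ≤ M) : L = M := by
  haveI := h.fact_q d
  haveI := h.fact_r d
  have hUL := h.core_inf_le_core d m hL hNV
  have hVL := h.core_inf_le_core d.symm m.symm hL hNU
  have hqL : core q L ≠ ⊥ := fun e => hV1 (eq_bot_iff.mpr (hVL.trans e.le))
  have hrL : core r L ≠ ⊥ := fun e => hU1 (eq_bot_iff.mpr (hUL.trans e.le))
  have hqM : core q L ≤ M := hNU _ (h.core_member hL.1)
    (((commutator_eq_bot_iff_le_centralizer.mp (commutator_core_eq_bot d.ne)).trans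
      (centralizer_le hUL)).trans (centralizer_le_normalizer _))
  have hrM : core r L ≤ M := hNV _ (h.core_member hL.1)
    (((commutator_eq_bot_iff_le_centralizer.mp (commutator_core_eq_bot d.ne.symm)).trans
      (centralizer_le hVL)).trans (centralizer_le_normalizer _))
  have hle : core r L ≤ core r M := by
    have hMN : M ⊓ normalizer (core q L : Set G) ≤ L := h.le_max_of_core hL hqL
      (member_inf m.max.1 ((member_normalized (h.core_member hL.1)).trans le_normalizer)) inf_le_right
    exact (le_core'_of_normalizer_le m.max.1.1 isPGroup_core hqM hrM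
      (not_dvd_of_isPGroup isPGroup_core d.ne) (core_le.trans le_normalizer_core)
      (hMN.trans le_normalizer_core)).trans (h.core'_le_core d.symm m.max.1)
  have he : core r M ⊓ L = core r L := le_antisymm hUL (le_inf hle core_le)
  have hfull : core r M ⊓ L = core r M := by
    by_contra hne
    refine normalizer_inf_not_le (isPGroup_core : IsPGroup r (core r M))
      (lt_of_le_of_ne inf_le_left hne) (le_inf inf_le_right ?_)
    refine h.le_max_of_core hL hrL ?_ (inf_le_left.trans (by rw [he]))
    rw [inf_comm]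
    exact member_inf (h.core_member m.max.1) ((member_normalized
      (member_inf (h.core_member m.max.1) (member_normalized hL.1))).trans le_normalizer)
  rw [hfull] at he
  exact (hL.2.2 M m.max.1 (h.le_max_of_core m.max m.core_r hL.1 (he ▸ le_normalizer_core))).symm

/-- **N.** The normalizer of a nontrivial part of `O_r(M)` lies in `M`. -/
theorem le_of_normalizes (m : Mixed p A θ q r M) (hU : U ∈ Cfsg.signalizerFamily p A θ)
    (hUle : U ≤ core r M) (hU1 : U ≠ ⊥) (hT : Cfsg.signalizerInf A θ ≤ normalizer (U : Set G))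
    {Y : Subgroup G} (hY : Y ∈ Cfsg.signalizerFamily p A θ) (hYU : Y ≤ normalizer (U : Set G)) :
    Y ≤ M := by
  induction U using (wellFounded_gt (α := Subgroup G)).induction generalizing Y with
  | _ U ih =>
  haveI := h.fact_q d
  haveI := h.fact_r d
  rcases hUle.lt_or_eq with hlt | heq
  swap
  · exact h.le_max_of_core m.max m.core_r hY (heq ▸ hYU)
  obtain ⟨L, hL, habs⟩ := h.exists_max_absorbs hU hU1 hT
  suffices e : L = M from e ▸ habs Y hY hYU
  have hqL : core q M ≤ L := habs _ (h.core_member m.max.1)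
    (((commutator_eq_bot_iff_le_centralizer.mp (commutator_core_eq_bot d.ne)).trans
      (centralizer_le hUle)).trans (centralizer_le_normalizer _))
  have hN1m : normalizer (U : Set G) ⊓ core r M ∈ Cfsg.signalizerFamily p A θ := by
    rw [inf_comm]
    exact member_inf (h.core_member m.max.1) ((member_normalized hU).trans le_normalizer)
  have hN1 : normalizer (U : Set G) ⊓ core r M ≤ core r M ⊓ L :=
    le_inf inf_le_right (habs _ hN1m inf_le_left)
  have hgt : U < core r M ⊓ L := lt_of_le_of_ne ((le_inf le_normalizer hUle).trans hN1) fun e =>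
    normalizer_inf_not_le (isPGroup_core : IsPGroup r (core r M)) hlt (hN1.trans e.ge)
  have hV : core q M ⊓ L = core q M := inf_eq_left.mpr hqL
  refine h.eq_of_meets d m hL (fun e => hU1 (eq_bot_iff.mpr (hgt.le.trans e.le))) (hV.trans_ne m.core_q)
    (fun Y' hY' hY'U => ?_) fun Y' hY' hY'V => h.le_max_of_core m.max m.core_q hY' (by rwa [hV] at hY'V)
  exact ih _ hgt (member_inf (h.core_member m.max.1) (member_normalized hL.1)) inf_le_left
    (fun e => hU1 (eq_bot_iff.mpr (hgt.le.trans e.le)))
    (CfsgLib.Signalizer74.le_normalizer_inf (m.max.2.1.trans le_normalizer_core) (hL.2.1.trans le_normalizer))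
    hY' hY'U

/-- **Both.** Another maximal member does not meet both cores. -/
theorem eq_of_inf_ne_bot (m : Mixed p A θ q r M) (hL : IsMax p A θ L) (hU1 : core r M ⊓ L ≠ ⊥)
    (hV1 : core q M ⊓ L ≠ ⊥) : L = M :=
  h.eq_of_meets d m hL hU1 hV1
    (fun _ hY hYU => h.le_of_normalizes d m (member_inf (h.core_member m.max.1) (member_normalized hL.1))
      inf_le_left hU1 (CfsgLib.Signalizer74.le_normalizer_inf (m.max.2.1.trans le_normalizer_core)
        (hL.2.1.trans le_normalizer)) hY hYU)
    (fun _ hY hYV => h.le_of_normalizes d.symm m.symm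
      (member_inf (h.core_member m.max.1) (member_normalized hL.1))
      inf_le_left hV1 (CfsgLib.Signalizer74.le_normalizer_inf (m.max.2.1.trans le_normalizer_core)
        (hL.2.1.trans le_normalizer)) hY hYV)

/-- **C.** The normalizer of an `r`-part of `C_M(O_q(M))` lies in `M`. -/
theorem le_of_normalizes_centralizing (m : Mixed p A θ q r M)
    (hW : W ∈ Cfsg.signalizerFamily p A θ) (hWr : IsPGroup r W) (hW1 : W ≠ ⊥) (hWM : W ≤ M)
    (hWc : W ≤ centralizer (core q M : Set G))
    (hT : Cfsg.signalizerInf A θ ≤ normalizer (W : Set G))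
    {Y : Subgroup G} (hY : Y ∈ Cfsg.signalizerFamily p A θ) (hYW : Y ≤ normalizer (W : Set G)) :
    Y ≤ M := by
  haveI := h.fact_r d
  obtain ⟨L, hL, habs⟩ := h.exists_max_absorbs hW hW1 hT
  suffices e : L = M from e ▸ habs Y hY hYW
  have hqL : core q M ≤ L := habs _ (h.core_member m.max.1)
    ((le_centralizer_iff.mp hWc).trans (centralizer_le_normalizer _))
  have hrL : core r M ⊓ centralizer (W : Set G) ≤ L := habs _
    (h.member_centralizer (h.core_member m.max.1) (member_normalized hW))
    (inf_le_right.trans (centralizer_le_normalizer _))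
  refine h.eq_of_inf_ne_bot d m hL (fun e => ?_) ((inf_eq_left.mpr hqL).symm ▸ m.core_q)
  refine inf_centralizer_ne_bot hWr isPGroup_core m.core_r (hWM.trans le_normalizer_core) ?_
  exact eq_bot_iff.mpr ((le_inf inf_le_left hrL).trans e.le)

/-- **Zero.** Another maximal member with a `q`-core meets `O_r(M)` trivially. -/
theorem core_inf_eq_bot (m : Mixed p A θ q r M) (hH : IsMax p A θ H) (hne : H ≠ M)
    (hqH : core q H ≠ ⊥) : core r M ⊓ H = ⊥ := by
  haveI := h.fact_q d
  haveI := h.fact_r d
  by_contra hU1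
  set U := core r M ⊓ H with hU
  set Y := centreOf (Top p A θ {q}) with hYdef
  have hUm : U ∈ Cfsg.signalizerFamily p A θ :=
    member_inf (h.core_member m.max.1) (member_normalized hH.1)
  have hUT : Cfsg.signalizerInf A θ ≤ normalizer (U : Set G) :=
    CfsgLib.Signalizer74.le_normalizer_inf (m.max.2.1.trans le_normalizer_core) (hH.2.1.trans le_normalizer)
  have hYM : Y ≤ M := h.centre_le_max d m.max m.core_q
  have hYH : Y ≤ H := h.centre_le_max d hH hqH
  have hYU : Y ≤ normalizer (U : Set G) := CfsgLib.Signalizer74.le_normalizer_inf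
    (hYM.trans le_normalizer_core) (hYH.trans le_normalizer)
  have hZU : ⁅U, Y⁆ ≤ U := CfsgLib.Coprime.commutator_le_of_normalizes hYU
  have hYq : core q H ≤ centralizer (Y : Set G) :=
    (h.core_le_topQ d hH).trans le_centralizer_centreOf
  -- `O_q(H) ≤ M`
  have hqM : core q H ≤ M := by
    by_cases hZ : ⁅U, Y⁆ = ⊥
    · have hUY : U ≤ centralizer (Y : Set G) := commutator_eq_bot_iff_le_centralizer.mp hZ
      obtain ⟨L, hL, habs⟩ := h.exists_max_absorbs (h.centre_member d)
        (h.centre_ne_bot d m.max m.core_q) (h.centre_tinv d)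
      have hX : Top p A θ {q} ≤ L := habs _ (h.topQ_isTop d).1
        (le_centralizer_centreOf.trans (centralizer_le_normalizer _))
      have hUL : U ≤ L := habs _ hUm (hUY.trans (centralizer_le_normalizer _))
      have e : L = M := h.eq_of_inf_ne_bot d m hL
        (fun e => hU1 (eq_bot_iff.mpr ((le_inf inf_le_left hUL).trans e.le)))
        ((inf_eq_left.mpr ((h.core_le_topQ d m.max).trans hX)).symm ▸ m.core_q)
      exact (h.core_le_topQ d hH).trans (e ▸ hX)
    refine h.le_of_normalizes d m ?_ (hZU.trans inf_le_left) hZ ?_ (h.core_member hH.1) ?_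
    · exact mem_family_of_le hUm hZU (le_normalizer_commutator (member_normalized hUm)
        (member_normalized (h.centre_member d)))
    · exact le_normalizer_commutator hUT (h.centre_tinv d)
    · refine (le_centralizer_iff.mp (commutator_eq_bot_iff_le_centralizer.mp ?_)).trans
        (centralizer_le_normalizer _)
      refine commutator_commutator_eq_bot_of_rotate ?_ ?_
      · rw [commutator_eq_bot_iff_le_centralizer.mpr (le_centralizer_iff.mp hYq), commutator_bot_left]
      · refine eq_bot_iff.mpr ((commutator_mono (CfsgLib.Coprime.commutator_le_of_normalizes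
          (inf_le_right.trans le_normalizer_core)) le_rfl).trans ?_)
        exact (commutator_eq_bot_iff_le_centralizer.mpr hYq).le
  by_cases hrH : core r H = ⊥
  · refine hU1 (eq_bot_iff.mpr fun u hu => ?_)
    rw [← hrH]
    refine mem_core_of_centralizes hH.1.1 hu.2 (isPGroup_core.to_le inf_le_left : IsPGroup r U) hu
      fun t ht => ?_
    by_cases htq : t = q
    · subst htq
      exact le_centralizer_of_normalizes d.ne.symm (isPGroup_core.to_le inf_le_left : IsPGroup r U)
        isPGroup_core (inf_le_right.trans le_normalizer_core)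
        (CfsgLib.Signalizer74.le_normalizer_inf (hqM.trans le_normalizer_core)
          (core_le.trans le_normalizer)) hu
    · rw [h.onlyCore_of_eq_bot d hH.1 hrH t ht htq]
      exact le_centralizer_bot (H := U) hu
  -- a part of `O_r(H)` lies in `O_r(M)`
  set U2 := core r H ⊓ centralizer (U : Set G) with hU2
  have hU21 : U2 ≠ ⊥ := inf_centralizer_ne_bot (isPGroup_core.to_le inf_le_left) isPGroup_core hrH
    (inf_le_right.trans le_normalizer_core)
  have hU2m : U2 ∈ Cfsg.signalizerFamily p A θ :=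
    h.member_centralizer (h.core_member hH.1) (member_normalized hUm)
  have hU2T : Cfsg.signalizerInf A θ ≤ normalizer (U2 : Set G) :=
    CfsgLib.Signalizer74.le_normalizer_inf (hH.2.1.trans le_normalizer_core)
      (hUT.trans normalizer_le_normalizer_centralizer')
  have hU2M : U2 ≤ M := h.le_of_normalizes d m hUm inf_le_left hU1 hUT hU2m
    (inf_le_right.trans (centralizer_le_normalizer _))
  have hMN : M ⊓ normalizer (core q H : Set G) ≤ H := h.le_max_of_core hH hqH
    (member_inf m.max.1 ((member_normalized (h.core_member hH.1)).trans le_normalizer)) inf_le_right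
  have hU2r : U2 ≤ core r M := (le_core'_of_normalizer_le m.max.1.1 isPGroup_core hqM hU2M
    (not_dvd_of_isPGroup (isPGroup_core.to_le inf_le_left) d.ne)
    (inf_le_left.trans (core_le.trans le_normalizer_core))
    (CfsgLib.Signalizer74.le_normalizer_inf (hMN.trans le_normalizer_core)
      ((CfsgLib.Signalizer74.le_normalizer_inf (inf_le_left.trans le_normalizer_core)
        (hMN.trans le_normalizer)).trans normalizer_le_normalizer_centralizer'))).trans
    (h.core'_le_core d.symm m.max.1)
  have hqMH : core q M ≤ H := h.le_of_normalizes d ⟨hH, hqH, hrH⟩ hU2m inf_le_left hU21 hU2T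
    (h.core_member m.max.1)
    (((commutator_eq_bot_iff_le_centralizer.mp (commutator_core_eq_bot d.ne)).trans
      (centralizer_le hU2r)).trans (centralizer_le_normalizer _))
  exact hne (h.eq_of_inf_ne_bot d m hH hU1 ((inf_eq_left.mpr hqMH).symm ▸ m.core_q))

theorem commutator_le_of_fixed_eq_bot (hM : IsMax p A θ M) (hZ : Z ∈ Cfsg.signalizerFamily p A θ)
    (hZc : IsMulCommutative Z) (hZr : IsPGroup r Z) (hZM : Z ≤ M) {b : G} (hb : b ∈ A)
    (hfix : core q M ⊓ centralizer {b} = ⊥) :
    ⁅Z, zpowers b⁆ ≤ centralizer (core q M : Set G) := by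
  haveI := h.fact_q d
  haveI := h.fact_r d
  have hbZ : zpowers b ≤ normalizer (Z : Set G) := (zpowers_le.mpr hb).trans (member_normalized hZ)
  have hle : ⁅Z, zpowers b⁆ ≤ Z := CfsgLib.Coprime.commutator_le_of_normalizes hbZ
  refine fpf_centralizes (p := p) (d := b) isPGroup_core (h.elem.2 b hb) (h.core_member hM.1).2.1
    (not_dvd_of_le hle hZ.2.1) (not_dvd_of_isPGroup (hZr.to_le hle) d.ne)
    ?_ (member_normalized (h.core_member hM.1) hb) ((hle.trans hZM).trans le_normalizer_core) ?_ ?_
  · exact (CfsgLib.Coprime.le_normalizer_commutator_right Z (zpowers b)) (mem_zpowers b)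
  · rw [← centralizer_zpowers']
    haveI := hZc
    exact CfsgLib.Coprime.commutator_inf_centralizer_eq_bot (zpowers b) Z hbZ
      ((h.coprime hZ).coprime_dvd_left (card_dvd_of_le (zpowers_le.mpr hb)))
  · rw [hfix]; exact le_centralizer_bot

omit h d in
/-- The commutators of small abelian `r`-members with the bad planes centralize `O_q(M)`. -/
def SideOK (p : ℕ) (A : Subgroup G) (θ : G → Subgroup G) (q r : ℕ) (M : Subgroup G) : Prop :=
  ∀ D, IsPlane p A D → ¬ Cfsg.signalizerInf D θ ≤ M → ∀ Z ∈ Cfsg.signalizerFamily p A θ,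
    IsMulCommutative Z → IsPGroup r Z → Z ≤ M → ⁅Z, D⁆ ≤ centralizer (core q M : Set G)

theorem fixed_or_fixed (m : Mixed p A θ q r M) (hD : IsPlane p A D)
    (hbad : ¬ Cfsg.signalizerInf D θ ≤ M) {a : G} (ha : a ∈ D) (ha1 : a ≠ 1) :
    core q M ⊓ centralizer {a} = ⊥ ∨ core r M ⊓ centralizer {a} = ⊥ := by
  obtain ⟨H, hH, hle⟩ := h.exists_max_ge_theta (hD.1 ha) ha1
  have hne : H ≠ M := fun e => hbad (e ▸ (signalizerInf_le ha ha1).trans hle)
  obtain ⟨t, -, ht, htne⟩ := h.exists_core_ne_bot hH
  rcases d.only t ht with rfl | rfl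
  · exact Or.inr (eq_bot_iff.mpr ((h.inf_centralizer_le_of_theta (h.core_member m.max.1) (hD.1 ha) ha1
      hle).trans (h.core_inf_eq_bot d m hH hne htne).le))
  · exact Or.inl (eq_bot_iff.mpr ((h.inf_centralizer_le_of_theta (h.core_member m.max.1) (hD.1 ha) ha1
      hle).trans (h.core_inf_eq_bot d.symm m.symm hH hne htne).le))

theorem exists_fixed_ne_bot (m : Mixed p A θ q r M) (hD : IsPlane p A D) :
    ∃ b ∈ D, b ≠ 1 ∧ core r M ⊓ centralizer {b} ≠ ⊥ := by
  by_contra hcon
  push Not at hcon
  refine m.core_r (eq_bot_iff.mpr (h.member_le_of_planes (h.core_member m.max.1) fun F hF => ?_))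
  obtain ⟨b, hbD, hbF, hb1⟩ := h.exists_meet hD hF
  exact (inf_le_inf_left _ (centralizer_le (Set.singleton_subset_iff.mpr hbF))).trans
    (hcon b hbD hb1).le

theorem sideOK_or (m : Mixed p A θ q r M) : SideOK p A θ q r M ∨ SideOK p A θ r q M := by
  by_contra hcon
  rw [not_or] at hcon
  simp only [SideOK] at hcon
  push Not at hcon
  obtain ⟨⟨D₁, hD₁, hb₁, Z₁, hZ₁, hc₁, hr₁, hM₁, hn₁⟩, D₂, hD₂, hb₂, Z₂, hZ₂, hc₂, hr₂, hM₂, hn₂⟩ := hcon
  have hCq : A ≤ normalizer ((centralizer (core q M : Set G) : Subgroup G) : Set G) :=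
    (member_normalized (h.core_member m.max.1)).trans normalizer_le_normalizer_centralizer'
  have hCr : A ≤ normalizer ((centralizer (core r M : Set G) : Subgroup G) : Set G) :=
    (member_normalized (h.core_member m.max.1)).trans normalizer_le_normalizer_centralizer'
  set Sq := sideSub A _ Z₁ hCq
  set Sr := sideSub A _ Z₂ hCr
  have hD₁S : ¬ D₁ ≤ Sq := fun e => hn₁ (commutator_le.mpr fun z hz x hx => (e hx).2 z hz)
  have hD₂S : ¬ D₂ ≤ Sr := fun e => hn₂ (commutator_le.mpr fun z hz x hx => (e hx).2 z hz)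
  have memq : ∀ {x : G}, x ∈ A → core q M ⊓ centralizer {x} = ⊥ → x ∈ Sq := fun {x} hx hf =>
    ⟨hx, fun z hz => h.commutator_le_of_fixed_eq_bot d m.max hZ₁ hc₁ hr₁ hM₁ hx hf
      (commutator_mem_commutator hz (mem_zpowers x))⟩
  have memr : ∀ {x : G}, x ∈ A → core r M ⊓ centralizer {x} = ⊥ → x ∈ Sr := fun {x} hx hf =>
    ⟨hx, fun z hz => h.commutator_le_of_fixed_eq_bot d.symm m.max hZ₂ hc₂ hr₂ hM₂ hx hf
      (commutator_mem_commutator hz (mem_zpowers x))⟩
  -- `D₁` lies in `Sr`, `D₂` in `Sq`
  obtain ⟨b, hbD, hb1, hbne⟩ := h.exists_fixed_ne_bot d m hD₁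
  obtain ⟨b', hb'D, hb'1, hb'ne⟩ := h.exists_fixed_ne_bot d.symm m.symm hD₂
  have hbq := (h.fixed_or_fixed d m hD₁ hb₁ hbD hb1).resolve_right hbne
  have hb'r := (h.fixed_or_fixed d m hD₂ hb₂ hb'D hb'1).resolve_left hb'ne
  have hbS := memq (hD₁.1 hbD) hbq
  have hb'S := memr (hD₂.1 hb'D) hb'r
  have key : ∀ {D S S' : Subgroup G} {s : G}, IsPlane p A D → s ∈ D → s ≠ 1 → s ∈ S → ¬ D ≤ S →
      (∀ x ∈ D, x ∉ S → x ∈ S') → D ≤ S' := by
    intro D S S' s hD hs hs1 hsS hn hcover
    obtain ⟨x, hx, hxS⟩ := SetLike.not_le_iff_exists.mp hn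
    have hxsS : x * s ∉ S := fun e => hxS (by simpa using S.mul_mem e (S.inv_mem hsS))
    refine h.plane_le hD hx (D.mul_mem hx hs) (fun e => hxS (e ▸ S.one_mem)) (fun e => hxS ?_)
      (hcover x hx hxS) (hcover _ (D.mul_mem hx hs) hxsS)
    have h1 : s ∈ zpowers x := by simpa using mul_mem (inv_mem (mem_zpowers x)) e
    exact (zpowers_le.mpr hsS) ((h.zpowers_eq_of_mem_zpowers (hD.1 hx) hs1 h1).ge (mem_zpowers x))
  have hD₁r : D₁ ≤ Sr := key hD₁ hbD hb1 hbS hD₁S fun x hx hxS =>
    memr (hD₁.1 hx) ((h.fixed_or_fixed d m hD₁ hb₁ hx fun e => hxS (e ▸ Sq.one_mem)).resolve_left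
      fun e => hxS (memq (hD₁.1 hx) e))
  have hD₂q : D₂ ≤ Sq := key hD₂ hb'D hb'1 hb'S hD₂S fun x hx hxS =>
    memq (hD₂.1 hx) ((h.fixed_or_fixed d m hD₂ hb₂ hx fun e => hxS (e ▸ Sr.one_mem)).resolve_right
      fun e => hxS (memr (hD₂.1 hx) e))
  obtain ⟨l, hl₁, hl₂, hl1⟩ := h.exists_meet hD₁ hD₂
  have hbl : b ∈ zpowers l := by
    by_contra hn
    exact hD₁S (h.plane_le hD₁ hl₁ hbD hl1 hn (hD₂q hl₂) hbS)
  have hb'l : b' ∈ zpowers l := by
    by_contra hn
    exact hD₂S (h.plane_le hD₂ hl₂ hb'D hl1 hn (hD₁r hl₁) hb'S)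
  rw [h.centralizer_eq_of_mem_zpowers (hD₁.1 hl₁) hb1 hbl] at hbq
  rw [h.centralizer_eq_of_mem_zpowers (hD₁.1 hl₁) hb'1 hb'l] at hb'ne
  exact hb'ne hbq

theorem false_of_side (m : Mixed p A θ q r M) (hS : SideOK p A θ q r M) : False := by
  haveI := h.fact_q d
  haveI := h.fact_r d
  have hX := h.topQ_isTop d.symm
  set X := Top p A θ {r} with hXdef
  have hrX : core r M ≤ X := h.core_le_topQ d.symm m.max
  -- commutators with fixed-point-free elements
  have key : ∀ {Z : Subgroup G}, Z ∈ Cfsg.signalizerFamily p A θ → IsMulCommutative Z → IsPGroup r Z →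
      Z ≤ M → Z ⊓ core r M ≠ ⊥ → Cfsg.signalizerInf A θ ≤ normalizer (Z : Set G) →
      ∀ D, IsPlane p A D → ¬ Cfsg.signalizerInf D θ ≤ M →
      ∀ K ∈ Cfsg.signalizerFamily p A θ, K ≤ normalizer (Z : Set G) → K ≤ centralizer (D : Set G) →
        K ≤ M := by
    intro Z hZ hZc hZr hZM hmeet hZT D hD hbad K hK hKZ hKD
    obtain ⟨b, hbD, hb1, hbne⟩ := h.exists_fixed_ne_bot d.symm m.symm hD
    have hfix := (h.fixed_or_fixed d m hD hbad hbD hb1).resolve_left hbne
    have hbA := hD.1 hbD
    have hW : ⁅Z, zpowers b⁆ ≤ Z := CfsgLib.Coprime.commutator_le_of_normalizes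
      ((zpowers_le.mpr hbA).trans (member_normalized hZ))
    have hnb : ∀ {S : Subgroup G}, S ≤ centralizer ({b} : Set G) →
        S ≤ normalizer (zpowers b : Set G) := fun hS => by
      rw [← centralizer_zpowers'] at hS
      exact hS.trans (centralizer_le_normalizer _)
    refine h.le_of_normalizes_centralizing d m (W := ⁅Z, zpowers b⁆) ?_ (hZr.to_le hW) (fun e => hmeet ?_)
      (hW.trans hZM) ((commutator_mono le_rfl (zpowers_le.mpr hbD)).trans (hS D hD hbad Z hZ hZc hZr hZM))
      ?_ hK ?_
    · refine mem_family_of_le hZ hW (le_normalizer_commutator (member_normalized hZ) (hnb ?_))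
      intro a ha
      exact mem_centralizer_singleton_iff.mpr (commute_of_mem h.elem ha hbA)
    · rw [commutator_eq_bot_iff_le_centralizer, centralizer_zpowers'] at e
      exact eq_bot_iff.mpr ((le_inf inf_le_right (inf_le_left.trans e)).trans hfix.le)
    · exact le_normalizer_commutator hZT
        (hnb (h.inf_le_centralizer.trans (centralizer_le (Set.singleton_subset_iff.mpr hbA))))
    · exact le_normalizer_commutator hKZ
        (hnb (hKD.trans (centralizer_le (Set.singleton_subset_iff.mpr hbD))))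
  -- `X_r ≤ M`
  set R := X ⊓ M with hR
  have hRm : R ∈ Cfsg.signalizerFamily p A θ := member_inf hX.1 (member_normalized m.max.1)
  have hRT : Cfsg.signalizerInf A θ ≤ normalizer (R : Set G) :=
    CfsgLib.Signalizer74.le_normalizer_inf hX.2.1 (h.tinv_inf_max m.max)
  have hRr : IsPGroup r R := hX.isPGroup.to_le inf_le_left
  have hXR : X ⊓ normalizer (R : Set G) ≤ M := by
    have hK := member_inf hX.1 ((member_normalized hRm).trans le_normalizer)
    refine h.member_le_of_planes hK fun D hD => ?_
    by_cases hgood : Cfsg.signalizerInf D θ ≤ M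
    · exact (h.inf_centralizer_le_thetaPlane hD hK).trans hgood
    refine key (h.member_centreOf hRm) isMulCommutative_centreOf (hRr.to_le centreOf_le)
      (centreOf_le.trans inf_le_right) ?_ (hRT.trans normalizer_le_normalizer_centreOf) D hD hgood _
      (member_inf hK (conj_mem_centralizer h.elem hD.1)) ?_ inf_le_right
    · rw [inf_comm]
      exact inf_centreOf_ne_bot hRr (le_inf hrX core_le) m.core_r (inf_le_right.trans le_normalizer_core)
    · exact (inf_le_left.trans inf_le_right).trans normalizer_le_normalizer_centreOf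
  have hXM : X ≤ M := by
    by_contra hn
    refine normalizer_inf_not_le (hX.isPGroup) (lt_of_le_of_ne inf_le_left fun e : R = X =>
      hn (e.ge.trans inf_le_right)) (le_inf inf_le_right ?_)
    rwa [inf_comm]
  -- conclusion
  obtain ⟨D, hD, hbad⟩ := h.exists_plane_not_le m.max.1
  obtain ⟨b, hbD, hb1, hbne⟩ := h.exists_fixed_ne_bot d m hD
  obtain ⟨H, hH, hle⟩ := h.exists_max_ge_theta (hD.1 hbD) hb1
  have hne : H ≠ M := fun e => hbad (e ▸ (signalizerInf_le hbD hb1).trans hle)
  have hqH : core q H = ⊥ := by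
    by_contra hqH
    exact hbne (eq_bot_iff.mpr ((h.inf_centralizer_le_of_theta (h.core_member m.max.1) (hD.1 hbD) hb1
      hle).trans (h.core_inf_eq_bot d m hH hne hqH).le))
  have hrHX : core r H ≤ X := h.core_le_topQ d.symm hH
  set R9 := core r H
  refine hbad (key (h.member_centreOf (h.core_member hH.1)) isMulCommutative_centreOf
    (isPGroup_core.to_le centreOf_le) (centreOf_le.trans (hrHX.trans hXM)) ?_
    ((h.inf_le_normalizer_core (h.tinv_inf_max hH)).trans normalizer_le_normalizer_centreOf) D hD hbad _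
    (h.thetaPlane_member hD) (((signalizerInf_le hbD hb1).trans hle).trans
      (le_normalizer_core.trans normalizer_le_normalizer_centreOf)) (h.thetaPlane_le_centralizer hD))
  have hne0 : core r M ⊓ centreOf X ≠ ⊥ :=
    inf_centreOf_ne_bot hX.isPGroup hrX m.core_r (hXM.trans le_normalizer_core)
  refine fun e => hne0 (eq_bot_iff.mpr (le_trans (le_inf ?_ inf_le_left) e.le))
  refine le_inf (inf_le_right.trans (h.centre_le_core d.symm hH hqH)) ?_
  exact (inf_le_right.trans inf_le_right).trans (centralizer_le hrHX)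

/-- There is no maximal member with both cores. -/
theorem false_of_mixed (m : Mixed p A θ q r M) : False :=
  (h.sideOK_or d m).elim (h.false_of_side d m) (h.false_of_side d.symm m.symm)

end Minimal

end CfsgLib.Signalizer74
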