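import Cfsg.Agent.Lib.Signalizer74.Two.Kernel

/-!
# Two primes, every maximal member with one core
-/

set_option autoImplicit false
set_option linter.style.haveILetI false
set_option linter.unusedSectionVars false

namespace CfsgLib.Signalizer74

open Subgroup CfsgLib.Signalizer
open scoped Pointwise commutatorElement

variable {G : Type*} [Group G] [Finite G] {p q r : ℕ} [hp : Fact p.Prime] {A : Subgroup G}
  {θ : G → Subgroup G} {B D F H L M P U W : Subgroup G}

namespace Minimal

variable (h : Minimal p A θ) (c : Pure p A θ q r)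
include h c

theorem qPt_of_fixed {a : G} (ha : a ∈ A) (ha1 : a ≠ 1)
    (hfix : kernelTwo p A θ q ⊓ centralizer {a} ≠ ⊥) : QPt p A θ r a := by
  obtain ⟨H, hH, hle⟩ := h.exists_max_ge_theta ha ha1
  refine ⟨H, hH, hle, (c.char H hH).resolve_left fun hq0 => hfix (eq_bot_iff.mpr ?_)⟩
  exact (h.inf_centralizer_le_of_theta (h.kernelTwo_member c) ha ha1 hle).trans
    (h.kernelTwo_inf_eq_bot c hH hq0).le

/-- **T1.** -/
theorem thetaPlane_le_normalizer_two (hB : IsPlane p A B)
    (hD : kernelTwo p A θ q ⊓ centralizer (B : Set G) ≠ ⊥ ∨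
      ∃ a b : G, a ∈ B ∧ b ∈ B ∧ a ≠ 1 ∧ b ∉ zpowers a ∧ QPt p A θ r a ∧ QPt p A θ r b) :
    Cfsg.signalizerInf B θ ≤ normalizer (kernelTwo p A θ q : Set G) := by
  haveI := h.fact_q c.two
  haveI := h.fact_r c.two
  set E := kernelTwo p A θ q with hE
  intro m hm
  refine CfsgLib.Coprime.mem_normalizer_of_forall_conj fun e he => ?_
  set Em := E.map (MulAut.conj m).toMonoidHom with hEm
  have hline_le : ∀ a : G, a ∈ B → a ≠ 1 → QPt p A θ r a →
      ∃ M, IsMax p A θ M ∧ θ a ≤ M ∧ Em ≤ core q M := by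
    rintro a haB ha1 ⟨M, hM, haM, hr⟩
    refine ⟨M, hM, haM, ?_⟩
    rintro _ ⟨x, hx, rfl⟩
    exact CfsgLib.Coprime.mem_normalizer_conj
      (le_normalizer_core (haM (signalizerInf_le haB ha1 hm))) (h.kernelTwo_le_core c hM hr hx)
  have hnd : ∀ {M : Subgroup G}, ∀ {K W : Subgroup G},
      K ≤ core q M → W ≤ M → ¬ r ∣ Nat.card ↥⁅K, W⁆ := by
    intro M K W hK hW
    refine not_dvd_of_isPGroup ((isPGroup_core : IsPGroup q (core q M)).to_le ?_) c.two.ne.symm
    exact (commutator_mono hK hW).trans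
      (CfsgLib.Coprime.commutator_le_of_normalizes le_normalizer_core)
  suffices hmain : Em ≤ E from hmain ⟨e, he, rfl⟩
  by_cases hfix : E ⊓ centralizer (B : Set G) ≠ ⊥
  · have hall : ∀ a ∈ B, a ≠ 1 → QPt p A θ r a := fun a haB ha1 =>
      h.qPt_of_fixed c (hB.1 haB) ha1 fun e => hfix (eq_bot_iff.mpr
        ((inf_le_inf_left _ (centralizer_le (Set.singleton_subset_iff.mpr haB))).trans e.le))
    obtain ⟨⟨a, haB⟩, hne⟩ := (ne_bot_iff_exists_ne_one).mp (h.plane_ne_bot hB)
    have ha1 : a ≠ 1 := fun e => hne (Subtype.ext e)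
    obtain ⟨M, hM, -, hEmM⟩ := hline_le a haB ha1 (hall a haB ha1)
    refine le_iInf fun L => le_trans ?_ (h.core'_le_core c.two L.2.1.1)
    refine CfsgLib.Signalizer.le_pPrimeCore_of_hyperplanes h.elem h.ne_bot L.2.1.1.2.1 L.2.1.1.1
      (member_normalized L.2.1.1) ((hEmM.trans (h.core_le_topQ c.two hM)).trans L.2.2)
      (not_dvd_of_isPGroup (isPGroup_core.to_le hEmM) c.two.ne.symm) fun B' hB' hi => ?_
    obtain ⟨⟨b, hb⟩, hbne⟩ := (ne_bot_iff_exists_ne_one).mp
      (inf_hyperplanes_ne_bot h.elem h.pow_le hB.1 hB.2 hi)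
    have hb1 : b ≠ 1 := fun e => hbne (Subtype.ext e)
    obtain ⟨M', -, hbM, hEmM'⟩ := hline_le b hb.1 hb1 (hall b hb.1 hb1)
    exact hnd hEmM' (((inf_le_inf_left _
      (centralizer_le (Set.singleton_subset_iff.mpr hb.2))).trans
        (L.2.1.1.2.2.2 b (hB.1 hb.1) hb1)).trans hbM)
  · push Not at hfix
    obtain ⟨a₁, a₂, ha₁, ha₂, ha₁1, ha₂1, hl₁, hl₂⟩ :=
      hD.resolve_left fun hne => hne hfix
    rw [hEm, map_le_iff_le_comap]
    refine h.member_le_of_planes (h.kernelTwo_member c) fun F hF => ?_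
    rw [← map_le_iff_le_comap]
    set K0 := E ⊓ centralizer (F : Set G) with hK0
    by_cases hFB : F = B
    · rw [hK0, hFB, hfix, Subgroup.map_bot]
      exact bot_le
    obtain ⟨a, haB, ha1, hl, haF⟩ : ∃ a, a ∈ B ∧ a ≠ 1 ∧ QPt p A θ r a ∧ a ∉ F := by
      by_cases h₁ : a₁ ∈ F
      · refine ⟨a₂, ha₂, fun e => ha₂1 (e ▸ one_mem _), hl₂, fun h₂ => ha₂1 ?_⟩
        exact h.mem_zpowers_of_planes hB hF (Ne.symm hFB) ha₁ h₁ ha₁1 ha₂ h₂
      · exact ⟨a₁, ha₁, ha₁1, hl₁, h₁⟩
    have haA := hB.1 haB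
    obtain ⟨M, hM, haM, hEmM⟩ := hline_le a haB ha1 hl
    set K := K0.map (MulAut.conj m).toMonoidHom with hK
    have hKM : K ≤ core q M := (map_mono inf_le_left).trans hEmM
    have hcomm : m * a = a * m :=
      (mem_centralizer_iff.mp (h.thetaPlane_le_centralizer hB hm) a haB).symm
    have haK0 : a ∈ normalizer (K0 : Set G) :=
      CfsgLib.Signalizer74.le_normalizer_inf (member_normalized (h.kernelTwo_member c))
        (conj_mem_centralizer h.elem hF.1) haA
    have haK : a ∈ normalizer (K : Set G) := by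
      refine CfsgLib.Coprime.mem_normalizer_of_forall_conj ?_
      rintro _ ⟨x, hx, rfl⟩
      refine ⟨a * x * a⁻¹, CfsgLib.Coprime.mem_normalizer_conj haK0 hx, ?_⟩
      simp only [MulEquiv.coe_toMonoidHom, MulAut.conj_apply]
      calc m * (a * x * a⁻¹) * m⁻¹ = (m * a) * x * (m * a)⁻¹ := by group
        _ = (a * m) * x * (a * m)⁻¹ := by rw [hcomm]
        _ = a * (m * x * m⁻¹) * a⁻¹ := by group
    have hfixK : K ⊓ centralizer {a} = ⊥ := by
      rw [eq_bot_iff]
      rintro _ ⟨⟨x, hx, rfl⟩, hc⟩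
      simp only [MulEquiv.coe_toMonoidHom, MulAut.conj_apply] at hc ⊢
      have hxa : x ∈ centralizer ({a} : Set G) := by
        have hmc : m ∈ centralizer ({a} : Set G) := mem_centralizer_singleton_iff.mpr hcomm
        have h1 := mul_mem (mul_mem (inv_mem hmc) hc) hmc
        simpa [mul_assoc] using h1
      have hxA : x ∈ E ⊓ centralizer (A : Set G) :=
        ⟨hx.1, h.inf_centralizer_plane_le hF haA haF ⟨hx.2, hxa⟩⟩
      have hx0 : x ∈ E ⊓ centralizer (B : Set G) := ⟨hxA.1, centralizer_le hB.1 hxA.2⟩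
      rw [hfix, mem_bot] at hx0
      simp [hx0]
    refine le_iInf fun L => le_trans ?_ (h.core'_le_core c.two L.2.1.1)
    exact le_core'_of_fpf (p := p) (h.elem.2 a haA) (member_normalized L.2.1.1 haA) haK L.2.1.1.2.1
      L.2.1.1.1 ((hKM.trans (h.core_le_topQ c.two hM)).trans L.2.2)
      (not_dvd_of_isPGroup (isPGroup_core.to_le hKM) c.two.ne.symm) hfixK
      (hnd hKM ((L.2.1.1.2.2.2 a haA ha1).trans haM))

omit h c in
/-- A maximal member over the normalizer of the kernel. -/
structure PivotTwo (p : ℕ) (A : Subgroup G) (θ : G → Subgroup G) (q r : ℕ) (M : Subgroup G) :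
    Prop where
  max : IsMax p A θ M
  top_le : Top p A θ {q} ≤ M
  core_r : core r M = ⊥
  absorbs : ∀ Y ∈ Cfsg.signalizerFamily p A θ, Y ≤ normalizer (kernelTwo p A θ q : Set G) → Y ≤ M

theorem exists_pivotTwo : ∃ M, PivotTwo p A θ q r M := by
  obtain ⟨M, hM, habs⟩ := h.exists_max_absorbs (h.kernelTwo_member c) (h.kernelTwo_ne_bot c)
    (h.kernelTwo_tinv c)
  have hX := habs _ (h.topQ_isTop c.two).1 (h.topQ_le_normalizer_kernelTwo c)
  exact ⟨M, hM, hX, h.core_r_eq_bot_of_centre_le c hM (centreOf_le.trans hX), habs⟩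

variable (m : PivotTwo p A θ q r M)
include m

/-- An element centralizing the kernel is not in all bad planes. -/
theorem false_of_common_two {a : G} (haA : a ∈ A) (ha1 : a ≠ 1)
    (hEa : kernelTwo p A θ q ≤ centralizer {a})
    (hcom : ∀ D, IsPlane p A D → ¬ Cfsg.signalizerInf D θ ≤ M → a ∈ D) : False := by
  haveI := h.fact_q c.two
  haveI := h.fact_r c.two
  have hn : zpowers a ≤ normalizer (core q M : Set G) :=
    ((zpowers_le.mpr haA).trans (member_normalized m.max.1)).trans normalizer_le_normalizer_core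
  have h1 : ⁅core q M, zpowers a⁆ ≤ kernelTwo p A θ q := by
    refine le_iInf fun L => le_trans ?_ (h.core'_le_core c.two L.2.1.1)
    refine commutator_le_core' h.elem (member_normalized L.2.1.1)
      (member_normalized (h.core_member m.max.1)) h.ne_bot L.2.1.1.2.1 L.2.1.1.1
      ((h.core_le_topQ c.two m.max).trans L.2.2) (not_dvd_of_isPGroup isPGroup_core c.two.ne.symm)
      (zpowers_le.mpr haA) fun B hB hi => ?_
    by_cases hgood : Cfsg.signalizerInf B θ ≤ M
    · refine Or.inr (not_dvd_of_isPGroup ((isPGroup_core : IsPGroup q (core q M)).to_le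
        (CfsgLib.Coprime.commutator_le_of_normalizes ?_)) c.two.ne.symm)
      exact ((h.inf_centralizer_le_thetaPlane ⟨hB, hi⟩ L.2.1.1).trans hgood).trans le_normalizer_core
    · exact Or.inl (zpowers_le.mpr (hcom B ⟨hB, hi⟩ hgood))
  have h2 : core q M ≤ centralizer {a} := by
    rw [← centralizer_zpowers', ← commutator_eq_bot_iff_le_centralizer]
    refine CfsgLib.Coprime.commutator_eq_bot_of_commutator_commutator_eq_bot (zpowers a) (core q M) hn
      ((h.coprime (h.core_member m.max.1)).coprime_dvd_left (card_dvd_of_le (zpowers_le.mpr haA)))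
      (Or.inr (isSolvable_pGroup isPGroup_core)) ?_
    rw [commutator_eq_bot_iff_le_centralizer, centralizer_zpowers']
    exact h1.trans hEa
  have h3 : M ≤ centralizer {a} := by
    refine le_centralizer_of_cores m.max.1.1 (member_normalized m.max.1 haA)
      ((h.coprime m.max.1).coprime_dvd_left (card_dvd_of_le (zpowers_le.mpr haA))) fun t ht => ?_
    by_cases htq : t = q
    · exact htq ▸ h2
    · rw [h.onlyCore_of_eq_bot c.two m.max.1 m.core_r t ht htq]; exact bot_le
  obtain ⟨H, hH, hle⟩ := h.exists_max_ge_theta haA ha1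
  have he : H = M := m.max.2.2 H hH.1 (((le_inf le_rfl h3).trans (m.max.1.2.2.2 a haA ha1)).trans hle)
  obtain ⟨D, hD, hbad⟩ := h.exists_plane_not_le m.max.1
  exact hbad (((signalizerInf_le (hcom D hD hbad) ha1).trans hle).trans he.le)

omit m in
/-- The situation of the last step: the weights of the kernel are a plane of `q`-points. -/
theorem false_of_plane_weights (m : PivotTwo p A θ q r M) (hP : IsPlane p A P)
    (hPR : ∀ a ∈ P, a ≠ 1 → ¬ QPt p A θ q a)
    (hEP : kernelTwo p A θ q ≤ centralizer (P : Set G))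
    (hR : ∀ F, IsPlane p A F → F ≠ P → ∃ b ∈ F, b ≠ 1 ∧ QPt p A θ q b)
    (hPM : Cfsg.signalizerInf P θ ≤ M) : False := by
  haveI := h.fact_q c.two
  haveI := h.fact_r c.two
  set E := kernelTwo p A θ q
  have hEm := h.kernelTwo_member c
  have hX := h.topQ_isTop c.two.symm
  set X := Top p A θ {r}
  set Y := centreOf X with hY
  have hYm := h.centre_member c.two.symm
  -- an `r`-point
  obtain ⟨D, hD, hbad⟩ := h.exists_plane_not_le m.max.1
  obtain ⟨b₀, hb₀D, hb₀1, H₀, hH₀, hle₀, hq₀⟩ := hR D hD fun e => hbad (e ▸ hPM)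
  -- no pure `q`-member contains `X_r`
  have hnoQ : ∀ L, IsMax p A θ L → X ≤ L → core r L ≠ ⊥ := by
    intro L hL hXL hr0
    have hQP : core q L ≤ centralizer (P : Set G) := by
      refine h.member_le_of_planes (h.core_member hL.1) fun F hF => ?_
      by_cases hFP : F = P
      · exact hFP ▸ inf_le_right
      obtain ⟨b, hbF, hb1, H, hH, hle, hq0⟩ := hR F hF hFP
      refine le_trans (fun w hw => ?_) (bot_le (a := centralizer (P : Set G)))
      have hwH : w ∈ H := hle ((h.core_member hL.1).2.2.2 b (hF.1 hbF) hb1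
        ⟨hw.1, centralizer_le (Set.singleton_subset_iff.mpr hbF) hw.2⟩)
      rw [← hq0]
      refine mem_core_of_centralizes hH.1.1 hwH (isPGroup_core : IsPGroup q (core q L)) hw.1 fun t ht => ?_
      by_cases htr : t = r
      · subst htr
        exact le_centralizer_of_normalizes c.two.ne (isPGroup_core.to_le inf_le_left :
          IsPGroup q ↥(core q L ⊓ H)) isPGroup_core (inf_le_right.trans le_normalizer_core)
          (CfsgLib.Signalizer74.le_normalizer_inf
            (((h.core_le_topQ c.two.symm hH).trans hXL).trans le_normalizer_core)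
            (core_le.trans le_normalizer)) ⟨hw.1, hwH⟩
      · rw [h.onlyCore_of_eq_bot c.two.symm hH.1 hq0 t ht htr]
        exact le_centralizer_bot (H := core q L) hw.1
    obtain ⟨⟨g, hgP⟩, hgne⟩ := (ne_bot_iff_exists_ne_one).mp (h.plane_ne_bot hP)
    have hg1 : g ≠ 1 := fun e => hgne (Subtype.ext e)
    have hgA := hP.1 hgP
    have hLg : L ≤ centralizer {g} := by
      refine le_centralizer_of_cores hL.1.1 (member_normalized hL.1 hgA)
        ((h.coprime hL.1).coprime_dvd_left (card_dvd_of_le (zpowers_le.mpr hgA))) fun t ht => ?_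
      by_cases htq : t = q
      · exact htq ▸ hQP.trans (centralizer_le (Set.singleton_subset_iff.mpr hgP))
      · rw [h.onlyCore_of_eq_bot c.two hL.1 hr0 t ht htq]; exact bot_le
    have hHg : H₀ ≤ centralizer {g} := by
      refine le_centralizer_of_cores hH₀.1.1 (member_normalized hH₀.1 hgA)
        ((h.coprime hH₀.1).coprime_dvd_left (card_dvd_of_le (zpowers_le.mpr hgA))) fun t ht => ?_
      by_cases htr : t = r
      · exact htr ▸ ((h.core_le_topQ c.two.symm hH₀).trans hXL).trans hLg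
      · rw [h.onlyCore_of_eq_bot c.two.symm hH₀.1 hq₀ t ht htr]; exact bot_le
    obtain ⟨H, hH, hle⟩ := h.exists_max_ge_theta hgA hg1
    have he : H = H₀ := hH₀.2.2 H hH.1 (((le_inf le_rfl hHg).trans (hH₀.1.2.2.2 g hgA hg1)).trans hle)
    exact hPR g hgP hg1 ⟨H, hH, hle, he ▸ hq₀⟩
  -- nontrivial parts of the centre of `X_r` act fixed point freely on the kernel
  have hfix : ∀ U ∈ Cfsg.signalizerFamily p A θ, U ≠ ⊥ → U ≤ Y →
      Cfsg.signalizerInf A θ ≤ normalizer (U : Set G) → E ⊓ centralizer (U : Set G) = ⊥ := by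
    intro U hU hU1 hUY hUT
    obtain ⟨L, hL, habs⟩ := h.exists_max_absorbs hU hU1 hUT
    have hXL : X ≤ L := habs _ hX.1
      ((le_centralizer_centreOf.trans (centralizer_le hUY)).trans (centralizer_le_normalizer _))
    exact eq_bot_iff.mpr ((le_inf inf_le_left (habs _ (h.member_centralizer hEm (member_normalized hU))
      (inf_le_right.trans (centralizer_le_normalizer _)))).trans
      (h.kernelTwo_inf_eq_bot c hL ((c.char L hL).resolve_right (hnoQ L hL hXL))).le)
  have hY1 : Y ≠ ⊥ := h.centre_ne_bot c.two.symm hH₀ (h.core_ne_bot_of_eq_bot c.two.symm hH₀ hq₀)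
  have hYr : IsPGroup r Y := (h.isPGroup_topQ c.two.symm).to_le centreOf_le
  -- commutators with the centre are centralized by the plane
  have hPI : ∀ {H V : Subgroup G}, IsMax p A θ H → V ∈ Cfsg.signalizerFamily p A θ → V ≤ Y → V ≤ H →
      ⁅core q H, V⁆ ≤ centralizer (P : Set G) := by
    intro H V hH hV hVY hVH
    refine le_centralizer_iff.mp (le_centralizer_commutator_of_planes h.elem h.ne_bot isPGroup_core
      (h.core_member hH.1).2.1 (member_normalized (h.core_member hH.1)) (member_normalized hV)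
      (hVH.trans le_normalizer_core) (not_dvd_of_isPGroup (hYr.to_le hVY) c.two.ne) fun B hB hi => ?_)
    by_cases hBP : B = P
    · exact Or.inl hBP.ge
    obtain ⟨b, hbB, hb1, H', hH', hle', hq'⟩ := hR B ⟨hB, hi⟩ hBP
    refine Or.inr fun v hv => mem_centralizer_iff.mpr fun x hx => ?_
    have hxH' : x ∈ H' := hle' ((h.core_member hH.1).2.2.2 b (hB hbB) hb1
      ⟨hx.1, centralizer_le (Set.singleton_subset_iff.mpr hbB) hx.2⟩)
    have hv' : v ∈ core r H' := h.centre_le_core c.two.symm hH' hq' (hVY hv)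
    have h1 : ⁅x, v⁆ ∈ core r H' ⊓ core q H := by
      refine ⟨?_, ?_⟩
      · rw [commutatorElement_def]
        exact (core r H').mul_mem (CfsgLib.Coprime.mem_normalizer_conj (le_normalizer_core hxH') hv')
          ((core r H').inv_mem hv')
      · rw [commutatorElement_def, mul_assoc, mul_assoc]
        refine (core q H).mul_mem hx.1 ?_
        rw [← mul_assoc]
        exact CfsgLib.Coprime.mem_normalizer_conj (le_normalizer_core (hVH hv))
          ((core q H).inv_mem hx.1)
    rw [(IsPGroup.disjoint_of_ne r q c.two.ne.symm _ _ isPGroup_core isPGroup_core).eq_bot, mem_bot] at h1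
    exact commutatorElement_eq_one_iff_mul_comm.mp h1
  have hAP : A ≤ normalizer (P : Set G) := le_normalizer_of_conj fun x hx y hy => by
    rw [commute_of_mem h.elem hx (hP.1 hy), mul_inv_cancel_right]; exact hy
  have hTP : Cfsg.signalizerInf A θ ≤ normalizer (P : Set G) :=
    (h.inf_le_centralizer.trans (centralizer_le hP.1)).trans (centralizer_le_normalizer _)
  have hrot : ∀ {V : Subgroup G}, ⁅E, V⁆ ≤ centralizer (P : Set G) →
      ⁅V, P⁆ ≤ centralizer (E : Set G) := fun hV =>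
    commutator_eq_bot_iff_le_centralizer.mp (commutator_commutator_eq_bot_of_rotate
      (by rw [commutator_eq_bot_iff_le_centralizer.mpr (le_centralizer_iff.mp hEP), commutator_bot_left])
      (commutator_eq_bot_iff_le_centralizer.mpr hV))
  -- the centre of `X_r` centralizes the plane
  have hYP : Y ≤ centralizer (P : Set G) := by
    refine h.member_le_of_planes hYm fun B hB => ?_
    obtain ⟨g, hgP, hgB, hg1⟩ := h.exists_meet hP hB
    set V := Y ⊓ centralizer {g}
    refine le_trans (inf_le_inf_left _ (centralizer_le (Set.singleton_subset_iff.mpr hgB))) ?_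
    have hgA := hP.1 hgP
    obtain ⟨H, hH, hle⟩ := h.exists_max_ge_theta hgA hg1
    have hrH : core r H = ⊥ := (c.char H hH).resolve_left fun e => hPR g hgP hg1 ⟨H, hH, hle, e⟩
    have hVm : V ∈ Cfsg.signalizerFamily p A θ :=
      member_inf hYm (conj_mem_centralizer h.elem (Set.singleton_subset_iff.mpr hgA))
    have hVH : V ≤ H := (hYm.2.2.2 g hgA hg1).trans hle
    have hEV : ⁅E, V⁆ ≤ centralizer (P : Set G) :=
      (commutator_mono (h.kernelTwo_le_core c hH hrH) le_rfl).trans (hPI hH hVm inf_le_left hVH)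
    have hle' : ⁅V, P⁆ ≤ V := CfsgLib.Coprime.commutator_le_of_normalizes (hP.1.trans (member_normalized hVm))
    refine commutator_eq_bot_iff_le_centralizer.mp ?_
    by_contra hne
    have h1 := hfix _ (mem_family_of_le hVm hle' (le_normalizer_commutator (member_normalized hVm) hAP))
      hne (hle'.trans inf_le_left) (le_normalizer_commutator (CfsgLib.Signalizer74.le_normalizer_inf
        (h.centre_tinv c.two.symm) (h.inf_le_normalizer_centralizer (Set.singleton_subset_iff.mpr hgA))) hTP)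
    rw [inf_eq_left.mpr (le_centralizer_iff.mp (hrot hEV))] at h1
    exact h.kernelTwo_ne_bot c h1
  have hYθ : Y ≤ Cfsg.signalizerInf P θ :=
    (le_inf le_rfl hYP).trans (h.inf_centralizer_le_thetaPlane hP hYm)
  have hPE : Cfsg.signalizerInf P θ ≤ normalizer (E : Set G) := by
    refine h.thetaPlane_le_normalizer_two c hP (Or.inl fun e => h.kernelTwo_ne_bot c ?_)
    rwa [inf_eq_left.mpr hEP] at e
  have hEY : ⁅E, Y⁆ = E := by
    have h1 := CfsgLib.Coprime.commutator_sup_centralizer Y E (hYθ.trans hPE)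
      (coprime_of_isPGroup hYr (not_dvd_of_isPGroup (h.kernelTwo_isPGroup c) c.two.ne.symm)).symm
      (Or.inr hEm.1)
    rwa [hfix Y hYm hY1 le_rfl (h.centre_tinv c.two.symm), sup_bot_eq] at h1
  -- `X_r ≤ M`
  refine hnoQ M m.max (h.member_le_of_planes hX.1 fun B hB => ?_) m.core_r
  obtain ⟨g, hgP, hgB, hg1⟩ := h.exists_meet hP hB
  set K := X ⊓ centralizer {g}
  refine le_trans (inf_le_inf_left _ (centralizer_le (Set.singleton_subset_iff.mpr hgB))) ?_
  have hgA := hP.1 hgP
  obtain ⟨H, hH, hle⟩ := h.exists_max_ge_theta hgA hg1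
  have hrH : core r H = ⊥ := (c.char H hH).resolve_left fun e => hPR g hgP hg1 ⟨H, hH, hle, e⟩
  have hKm : K ∈ Cfsg.signalizerFamily p A θ :=
    member_inf hX.1 (conj_mem_centralizer h.elem (Set.singleton_subset_iff.mpr hgA))
  have hKH : K ≤ H := (hX.1.2.2.2 g hgA hg1).trans hle
  have hYH : Y ≤ H := (hYθ.trans (signalizerInf_le hgP hg1)).trans hle
  have hKW : K ≤ normalizer ((⁅core q H, Y⁆ : Subgroup G) : Set G) :=
    le_normalizer_commutator (hKH.trans le_normalizer_core)
      ((inf_le_left.trans le_centralizer_centreOf).trans (centralizer_le_normalizer _))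
  have hEK : ⁅E, K⁆ ≤ centralizer (P : Set G) := by
    refine ((commutator_mono ?_ le_rfl).trans (CfsgLib.Coprime.commutator_le_of_normalizes hKW)).trans
      (hPI hH hYm le_rfl hYH)
    conv_lhs => rw [← hEY]
    exact commutator_mono (h.kernelTwo_le_core c hH hrH) le_rfl
  have hPK : P ≤ normalizer (K : Set G) := hP.1.trans (member_normalized hKm)
  have hsplit := CfsgLib.Coprime.commutator_sup_centralizer P K hPK
    ((h.coprime hKm).coprime_dvd_left (card_dvd_of_le hP.1)) (Or.inr hKm.1)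
  refine hsplit.ge.trans (sup_le (m.absorbs _ ?_ ((hrot hEK).trans (centralizer_le_normalizer _)))
    ((h.inf_centralizer_le_thetaPlane hP hKm).trans hPM))
  exact mem_family_of_le hKm (CfsgLib.Coprime.commutator_le_of_normalizes hPK)
    (le_normalizer_commutator (member_normalized hKm) hAP)

omit m in
/-- A plane without `r`-points is impossible. -/
theorem false_of_plane (hP : IsPlane p A P) (hPR : ∀ a ∈ P, a ≠ 1 → ¬ QPt p A θ q a) : False := by
  obtain ⟨M, m⟩ := h.exists_pivotTwo c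
  set E := kernelTwo p A θ q
  have hPQ : ∀ a ∈ P, a ≠ 1 → QPt p A θ r a := fun a ha ha1 => by
    obtain ⟨H, hH, hle⟩ := h.exists_max_ge_theta (hP.1 ha) ha1
    exact ⟨H, hH, hle, (c.char H hH).resolve_left fun e => hPR a ha ha1 ⟨H, hH, hle, e⟩⟩
  -- a bad plane has one line of `q`-points, centralizing the kernel
  have hbadP : ∀ D, IsPlane p A D → ¬ Cfsg.signalizerInf D θ ≤ M →
      ∃ a ∈ D, a ∈ P ∧ a ≠ 1 ∧ (∀ x ∈ D, QPt p A θ r x → x ∈ zpowers a) ∧ E ≤ centralizer {a} := by
    intro D hD hbad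
    have hn : ¬ Cfsg.signalizerInf D θ ≤ normalizer (E : Set G) := fun e =>
      hbad (m.absorbs _ (h.thetaPlane_member hD) e)
    obtain ⟨a, haD, haP, ha1⟩ := h.exists_meet hD hP
    have huniq : ∀ x ∈ D, QPt p A θ r x → x ∈ zpowers a := fun x hx hxq => by_contra fun hxa =>
      hn (h.thetaPlane_le_normalizer_two c hD
        (Or.inr ⟨a, x, haD, hx, ha1, hxa, hPQ a haP ha1, hxq⟩))
    refine ⟨a, haD, haP, ha1, huniq, h.member_le_of_planes (h.kernelTwo_member c) fun F hF => ?_⟩
    by_cases hFb : E ⊓ centralizer (F : Set G) = ⊥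
    · rw [hFb]; exact bot_le
    obtain ⟨x, hxD, hxF, hx1⟩ := h.exists_meet hD hF
    have hxa := huniq x hxD (h.qPt_of_fixed c (hD.1 hxD) hx1 fun e => hFb (eq_bot_iff.mpr
      ((inf_le_inf_left _ (centralizer_le (Set.singleton_subset_iff.mpr hxF))).trans e.le)))
    rw [← h.centralizer_eq_of_mem_zpowers (hD.1 haD) hx1 hxa]
    exact inf_le_right.trans (centralizer_le (Set.singleton_subset_iff.mpr hxF))
  obtain ⟨D₁, hD₁, hb₁⟩ := h.exists_plane_not_le m.max.1
  obtain ⟨a₁, ha₁D, ha₁P, ha₁1, hu₁, hE₁⟩ := hbadP D₁ hD₁ hb₁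
  by_cases hcom : ∀ D, IsPlane p A D → ¬ Cfsg.signalizerInf D θ ≤ M → a₁ ∈ D
  · exact h.false_of_common_two c m (hD₁.1 ha₁D) ha₁1 hE₁ hcom
  push Not at hcom
  obtain ⟨D₂, hD₂, hb₂, ha₁D₂⟩ := hcom
  obtain ⟨a₂, ha₂D, ha₂P, ha₂1, hu₂, hE₂⟩ := hbadP D₂ hD₂ hb₂
  have hind : a₂ ∉ zpowers a₁ := fun e => ha₁D₂ ((zpowers_le.mpr ha₂D)
    ((h.zpowers_eq_of_mem_zpowers (hD₁.1 ha₁D) ha₂1 e).ge (mem_zpowers a₁)))
  have hEP : E ≤ centralizer (P : Set G) :=
    (le_inf hE₁ hE₂).trans (h.plane_le_centralizer hP ha₁P ha₂P ha₁1 hind)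
  have hR : ∀ F, IsPlane p A F → F ≠ P → ∃ b ∈ F, b ≠ 1 ∧ QPt p A θ q b := by
    intro F hF hFP
    by_contra hcon
    push Not at hcon
    have key : ∀ {D : Subgroup G} {a : G}, IsPlane p A D → a ∈ D →
        (∀ x ∈ D, QPt p A θ r x → x ∈ zpowers a) → a ∈ F := by
      intro D a hD haD hu
      obtain ⟨x, hxD, hxF, hx1⟩ := h.exists_meet hD hF
      obtain ⟨H, hH, hle⟩ := h.exists_max_ge_theta (hD.1 hxD) hx1
      have hxa := hu x hxD ⟨H, hH, hle, (c.char H hH).resolve_left fun e => hcon x hxF hx1 ⟨H, hH, hle, e⟩⟩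
      exact (zpowers_le.mpr hxF) ((h.zpowers_eq_of_mem_zpowers (hD.1 haD) hx1 hxa).ge (mem_zpowers a))
    exact hFP (eq_of_le_of_card_ge (h.plane_le hP ha₁P ha₂P ha₁1 hind (key hD₁ ha₁D hu₁) (key hD₂ ha₂D hu₂))
      (by rw [h.plane_card hP, h.plane_card hF])).symm
  refine h.false_of_plane_weights c m hP hPR hEP hR (m.absorbs _ (h.thetaPlane_member hP) ?_)
  exact h.thetaPlane_le_normalizer_two c hP
    (Or.inr ⟨a₁, a₂, ha₁P, ha₂P, ha₁1, hind, hPQ a₁ ha₁P ha₁1, hPQ a₂ ha₂P ha₂1⟩)

omit c m in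
/-- Two primes with all maximal members having one core are impossible. -/
theorem false_of_char (d : TwoPrimes A θ q r)
    (hchar : ∀ H, IsMax p A θ H → core q H = ⊥ ∨ core r H = ⊥) : False := by
  have main : ∀ {x y : ℕ}, TwoPrimes A θ x y → (∀ H, IsMax p A θ H → core x H = ⊥ ∨ core y H = ⊥) →
      (∃ P, IsPlane p A P ∧ ∀ a ∈ P, a ≠ 1 → ¬ QPt p A θ x a) → False := by
    rintro x y dx hc ⟨P, hP, hPR⟩
    refine h.false_of_plane ⟨dx, hc, fun F hF => ?_⟩ hP hPR
    obtain ⟨a, haP, haF, ha1⟩ := h.exists_meet hP hF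
    obtain ⟨H, hH, hle⟩ := h.exists_max_ge_theta (hP.1 haP) ha1
    exact ⟨a, haF, ha1, H, hH, hle, (hc H hH).resolve_left fun e => hPR a haP ha1 ⟨H, hH, hle, e⟩⟩
  by_cases h1 : ∃ P, IsPlane p A P ∧ ∀ a ∈ P, a ≠ 1 → ¬ QPt p A θ q a
  · exact main d hchar h1
  by_cases h2 : ∃ P, IsPlane p A P ∧ ∀ a ∈ P, a ≠ 1 → ¬ QPt p A θ r a
  · exact main d.symm (fun H hH => (hchar H hH).symm) h2
  push Not at h1 h2
  have c : Pure p A θ q r := ⟨d, hchar, h2⟩
  haveI := h.fact_q d
  set Y := centreOf (Top p A θ {q})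
  refine h.centre_ne_bot' c (eq_bot_iff.mpr (h.member_le_of_planes (h.centre_member d) fun F hF => ?_))
  obtain ⟨a, haF, ha1, H, hH, hle, hq0⟩ := h1 F hF
  refine (inf_le_inf_left _ (centralizer_le (Set.singleton_subset_iff.mpr haF))).trans
    ((h.inf_centralizer_le_of_theta (h.centre_member d) (hF.1 haF) ha1 hle).trans ?_)
  exact (h.inf_eq_bot_of_core c (h.centre_member d) ((h.isPGroup_topQ d).to_le centreOf_le)
    (fun _ hL hr => h.centre_le_core d hL hr) hH hq0).le

end Minimal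

end CfsgLib.Signalizer74
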