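import Cfsg.Agent.Lib.Signalizer74.ThreeI
import Cfsg.Agent.Lib.OddOrder.PuigSeries

/-!
# A minimal incomplete functor with two primes
-/

set_option autoImplicit false
set_option linter.style.haveILetI false
set_option linter.unusedSectionVars false

namespace CfsgLib.Signalizer74

open Subgroup CfsgLib.Signalizer
open scoped Pointwise commutatorElement

variable {G : Type*} [Group G] [Finite G] {p q r s : ℕ} [hp : Fact p.Prime] {A : Subgroup G}
  {θ : G → Subgroup G} {H K L M U W X Z : Subgroup G}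

/-- The primes are exactly `q` and `r`. -/
structure TwoPrimes (A : Subgroup G) (θ : G → Subgroup G) (q r : ℕ) : Prop where
  mq : q ∈ primes A θ
  mr : r ∈ primes A θ
  ne : q ≠ r
  only : ∀ t ∈ primes A θ, t = q ∨ t = r

theorem TwoPrimes.symm (d : TwoPrimes A θ q r) : TwoPrimes A θ r q :=
  ⟨d.mr, d.mq, d.ne.symm, fun t ht => (d.only t ht).symm⟩

/-- The centre, inside the ambient group. -/
def centreOf (H : Subgroup G) : Subgroup G := H ⊓ centralizer (H : Set G)

theorem centreOf_le : centreOf H ≤ H := inf_le_left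

theorem le_centralizer_centreOf : H ≤ centralizer (centreOf H : Set G) :=
  le_centralizer_iff.mp (inf_le_right : centreOf H ≤ centralizer (H : Set G))

theorem normalizer_le_normalizer_centreOf :
    normalizer (H : Set G) ≤ normalizer (centreOf H : Set G) :=
  CfsgLib.Signalizer74.le_normalizer_inf le_rfl normalizer_le_normalizer_centralizer'

theorem isMulCommutative_centreOf : IsMulCommutative (centreOf H) :=
  ⟨⟨fun a b => Subtype.ext (mem_centralizer_iff.mp b.2.2 a a.2.1)⟩⟩

/-- A nontrivial normal subgroup of a group of prime power order meets the centre. -/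
theorem inf_centreOf_ne_bot [Fact s.Prime] (hH : IsPGroup s H) (hU : U ≤ H) (hne : U ≠ ⊥)
    (hn : H ≤ normalizer (U : Set G)) : U ⊓ centreOf H ≠ ⊥ := by
  haveI : (U.subgroupOf H).Normal := (normal_subgroupOf_iff_le_normalizer hU).mpr hn
  have hne' : U.subgroupOf H ≠ ⊥ := fun e =>
    hne (eq_bot_iff.mpr fun x hx => by
      have h1 : (⟨x, hU hx⟩ : H) ∈ U.subgroupOf H := mem_subgroupOf.mpr hx
      rw [e, mem_bot] at h1
      exact mem_bot.mpr (congrArg Subtype.val h1))
  haveI := hH.isNilpotent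
  obtain ⟨⟨⟨x, hxH⟩, hx⟩, hx1⟩ :=
    (ne_bot_iff_exists_ne_one).mp (CfsgLib.OddOrder.PuigSeries.inf_center_ne_bot (U.subgroupOf H) hne')
  intro e
  refine hx1 (Subtype.ext (Subtype.ext ?_))
  have h2 : x ∈ U ⊓ centreOf H := ⟨mem_subgroupOf.mp hx.2, hxH, mem_centralizer_iff.mpr fun z hz =>
    congrArg Subtype.val (mem_center_iff.mp hx.1 ⟨z, hz⟩)⟩
  rw [e, mem_bot] at h2
  exact h2

theorem centreOf_ne_bot [Fact s.Prime] (hH : IsPGroup s H) (hne : H ≠ ⊥) : centreOf H ≠ ⊥ :=
  fun e => inf_centreOf_ne_bot hH le_rfl hne le_normalizer (eq_bot_iff.mpr (inf_le_right.trans e.le))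

/-- A group of prime power order fixes a nontrivial element of another it normalizes. -/
theorem inf_centralizer_ne_bot [Fact s.Prime] (hW : IsPGroup s W) (hU : IsPGroup s U) (hne : U ≠ ⊥)
    (hn : W ≤ normalizer (U : Set G)) : U ⊓ centralizer (W : Set G) ≠ ⊥ := fun e =>
  inf_centreOf_ne_bot (IsPGroup.to_sup_of_normal_right' hW hU hn) le_sup_right hne
    (sup_le hn le_normalizer) (eq_bot_iff.mpr (le_trans (le_inf inf_le_left
      (inf_le_right.trans (inf_le_right.trans (centralizer_le fun _ hx => mem_sup_left hx)))) e.le))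

/-- A group on which a coprime operator acts centralizes a `p'`-group when the parts do. -/
theorem eq_commutator_sup {c : G} (hK : zpowers c ≤ normalizer (K : Set G))
    (hcop : (Nat.card (zpowers c)).Coprime (Nat.card K)) (hKs : Group.IsSolvable K) :
    ⁅K, zpowers c⁆ ⊔ (K ⊓ centralizer {c}) = K := by
  rw [← centralizer_zpowers']
  exact CfsgLib.Coprime.commutator_sup_centralizer (zpowers c) K hK hcop (Or.inr hKs)

namespace Minimal

variable (h : Minimal p A θ)
include h

theorem member_centreOf (hH : H ∈ Cfsg.signalizerFamily p A θ) :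
    centreOf H ∈ Cfsg.signalizerFamily p A θ :=
  mem_family_of_le hH centreOf_le ((member_normalized hH).trans normalizer_le_normalizer_centreOf)

theorem member_centralizer (hK : K ∈ Cfsg.signalizerFamily p A θ) (hU : A ≤ normalizer (U : Set G)) :
    K ⊓ centralizer (U : Set G) ∈ Cfsg.signalizerFamily p A θ :=
  member_inf hK (hU.trans normalizer_le_normalizer_centralizer')

theorem exists_max_absorbs (hU : U ∈ Cfsg.signalizerFamily p A θ) (hU1 : U ≠ ⊥)
    (hT : Cfsg.signalizerInf A θ ≤ normalizer (U : Set G)) :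
    ∃ L, IsMax p A θ L ∧
      ∀ Y ∈ Cfsg.signalizerFamily p A θ, Y ≤ normalizer (U : Set G) → Y ≤ L := by
  obtain ⟨W, hW, hle⟩ := h.exists_normalizer_completion hU hU1
  obtain ⟨L, hL, hWL⟩ := h.exists_max_ge hW ((hle _ h.inf_member hT).trans le_normalizer)
  exact ⟨L, hL, fun Y hY hYU => (hle Y hY hYU).trans hWL⟩

/-- A maximal member in whose place `θ a` sits. -/
theorem inf_centralizer_le_of_theta (hK : K ∈ Cfsg.signalizerFamily p A θ) {a : G} (ha : a ∈ A)
    (ha1 : a ≠ 1) (hle : θ a ≤ H) : K ⊓ centralizer {a} ≤ K ⊓ H :=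
  le_inf inf_le_left ((hK.2.2.2 a ha ha1).trans hle)

theorem tinv_inf_max (hM : IsMax p A θ M) :
    Cfsg.signalizerInf A θ ≤ normalizer (M : Set G) := hM.2.1.trans le_normalizer

theorem exists_meet {D F : Subgroup G} (hD : IsPlane p A D) (hF : IsPlane p A F) :
    ∃ a ∈ D, a ∈ F ∧ a ≠ 1 := by
  obtain ⟨⟨a, ha⟩, hne⟩ := (ne_bot_iff_exists_ne_one).mp
    (inf_hyperplanes_ne_bot h.elem h.pow_le hD.1 hD.2 hF.2)
  exact ⟨a, ha.1, ha.2, fun e => hne (Subtype.ext e)⟩

theorem zpowers_eq_of_mem_zpowers {a b : G} (hb : b ∈ A) (ha1 : a ≠ 1) (hab : a ∈ zpowers b) :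
    zpowers a = zpowers b :=
  eq_of_le_of_card_ge (zpowers_le.mpr hab) (by
    have hb1 : b ≠ 1 := fun e => ha1 (by simpa [e] using hab)
    rw [Nat.card_zpowers, Nat.card_zpowers, orderOf_eq_prime (h.elem.2 b hb) hb1,
      orderOf_eq_prime (h.elem.2 a ((zpowers_le.mpr hb) hab)) ha1])

theorem centralizer_eq_of_mem_zpowers {a b : G} (hb : b ∈ A) (ha1 : a ≠ 1) (hab : a ∈ zpowers b) :
    centralizer ({a} : Set G) = centralizer {b} := by
  rw [← centralizer_zpowers', h.zpowers_eq_of_mem_zpowers hb ha1 hab, centralizer_zpowers']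

variable (d : TwoPrimes A θ q r)
include d

theorem fact_q : Fact q.Prime := fact_of_mem d.mq

theorem fact_r : Fact r.Prime := fact_of_mem d.mr

theorem topQ_isTop : IsTop p {q} A θ (Top p A θ {q}) :=
  h.top_isTop d.mr (fun e => d.ne (Set.mem_singleton_iff.mp e).symm)

theorem isPGroup_topQ : IsPGroup q (Top p A θ {q}) :=
  haveI := h.fact_q d
  (h.topQ_isTop d).isPGroup

theorem core_le_topQ (hM : IsMax p A θ M) : core q M ≤ Top p A θ {q} :=
  haveI := h.fact_q d
  (h.topQ_isTop d).le_of_isPGroup rfl (h.core_member hM.1)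
    (h.inf_le_normalizer_core (h.tinv_inf_max hM)) isPGroup_core

theorem core_eq_bot_other {t : ℕ} (hH : H ∈ Cfsg.signalizerFamily p A θ) (ht : t.Prime)
    (hq : t ≠ q) (hr : t ≠ r) : core t H = ⊥ :=
  h.core_eq_bot_of_notMem hH ht fun hm => (d.only t hm).elim hq hr

theorem core'_le_core (hH : H ∈ Cfsg.signalizerFamily p A θ) : core' r H ≤ core q H := by
  haveI := h.fact_q d
  haveI := h.fact_r d
  refine le_core core'_le le_normalizer_core' (IsPGroup.of_card
    (Nat.eq_prime_pow_of_unique_prime_dvd Nat.card_pos.ne' fun {t} ht hdvd => ?_))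
  refine (d.only t (h.prime_mem ht hH (hdvd.trans (card_dvd_of_le core'_le)))).resolve_right fun e => ?_
  exact not_dvd_core' (e ▸ hdvd)

theorem onlyCore_of_eq_bot (hH : H ∈ Cfsg.signalizerFamily p A θ) (hr0 : core r H = ⊥) :
    OnlyCore q H := fun t ht htq => by
  by_cases htr : t = r
  · rw [htr]; exact hr0
  · exact h.core_eq_bot_other d hH ht htq htr

theorem core_ne_bot_of_eq_bot (hM : IsMax p A θ M) (hr0 : core r M = ⊥) : core q M ≠ ⊥ := by
  obtain ⟨t, -, ht, hne⟩ := h.exists_core_ne_bot hM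
  rcases d.only t ht with e | e
  · exact e ▸ hne
  · exact absurd hr0 (e ▸ hne)

/-- The centre of `X_q`. -/
theorem centre_member : centreOf (Top p A θ {q}) ∈ Cfsg.signalizerFamily p A θ :=
  h.member_centreOf (h.topQ_isTop d).1

theorem centre_tinv :
    Cfsg.signalizerInf A θ ≤ normalizer (centreOf (Top p A θ {q}) : Set G) :=
  (h.topQ_isTop d).2.1.trans normalizer_le_normalizer_centreOf

theorem centre_le_max (hM : IsMax p A θ M) (hne : core q M ≠ ⊥) :
    centreOf (Top p A θ {q}) ≤ M :=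
  h.le_max_of_core hM hne (h.centre_member d) ((inf_le_right.trans
    (centralizer_le (h.core_le_topQ d hM))).trans (centralizer_le_normalizer _))

/-- `Z(X_q)` is in the core of every maximal member with a `q`-core only. -/
theorem centre_le_core (hM : IsMax p A θ M) (hr0 : core r M = ⊥) :
    centreOf (Top p A θ {q}) ≤ core q M := by
  haveI := h.fact_q d
  have hne := h.core_ne_bot_of_eq_bot d hM hr0
  intro y hy
  refine mem_core_of_centralizes hM.1.1 (h.centre_le_max d hM hne hy)
    ((h.isPGroup_topQ d).to_le centreOf_le) hy fun t ht => ?_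
  by_cases htq : t = q
  · exact htq ▸ centralizer_le (h.core_le_topQ d hM) hy.2
  · rw [h.onlyCore_of_eq_bot d hM.1 hr0 t ht htq]
    exact le_centralizer_bot (H := centreOf _) hy

theorem topQ_ne_bot (hM : IsMax p A θ M) (hne : core q M ≠ ⊥) : Top p A θ {q} ≠ ⊥ := fun e =>
  hne (eq_bot_iff.mpr ((h.core_le_topQ d hM).trans e.le))

theorem centre_ne_bot (hM : IsMax p A θ M) (hne : core q M ≠ ⊥) :
    centreOf (Top p A θ {q}) ≠ ⊥ :=
  haveI := h.fact_q d
  centreOf_ne_bot (h.isPGroup_topQ d) (h.topQ_ne_bot d hM hne)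

end Minimal

end CfsgLib.Signalizer74
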