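import Cfsg.Agent.Lib.Signalizer74.Two.Basic
import Cfsg.Agent.Lib.Transfer.ThompsonNPC
import Cfsg.Agent.Lib.PCore.PSolvable
import Cfsg.Agent.S0620

/-!
# Two primes, every maximal member with one core: the kernel
-/

set_option autoImplicit false
set_option linter.style.haveILetI false
set_option linter.unusedSectionVars false

namespace CfsgLib.Signalizer74

open Subgroup CfsgLib.Signalizer
open scoped Pointwise commutatorElement

variable {G : Type*} [Group G] [Finite G] {p q r : ℕ} [hp : Fact p.Prime] {A : Subgroup G}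
  {θ : G → Subgroup G} {F H K L M U W Z : Subgroup G}

/-- The intersection of the `q`-cores of the maximal members containing `X_q`. -/
def kernelTwo (p : ℕ) (A : Subgroup G) (θ : G → Subgroup G) (q : ℕ) : Subgroup G :=
  ⨅ L : {L : Subgroup G // Minimal.IsMax p A θ L ∧ Top p A θ {q} ≤ L}, core q (L : Subgroup G)

omit [Finite G] hp in
theorem normalizer_le_normalizer_omegaOne {s : ℕ} (P : Subgroup G) :
    normalizer (P : Set G) ≤ normalizer (Cfsg.omegaOne s P : Set G) := by
  intro g hg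
  rw [mem_normalizer_iff_map_conj_eq, ← CfsgLib.PLocal.omegaOne_map (f := (MulAut.conj g : G →* G))
    (MulAut.conj g).injective, mem_normalizer_iff_map_conj_eq.mp hg]

omit hp in
theorem omegaOne_ne_bot {s : ℕ} [Fact s.Prime] {P : Subgroup G} (hP : IsPGroup s P) (hne : P ≠ ⊥) :
    Cfsg.omegaOne s P ≠ ⊥ := by
  obtain ⟨n, hn⟩ := IsPGroup.iff_card.mp hP
  have hn0 : n ≠ 0 := fun e => hne (card_eq_one.mp (by rw [hn, e, pow_zero]))
  obtain ⟨x, hx⟩ := exists_prime_orderOf_dvd_card' (G := P) s (hn ▸ dvd_pow_self s hn0)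
  intro e
  have h1 : (x : G) ∈ Cfsg.omegaOne s P := subset_closure
    ⟨x.2, by rw [← SubmonoidClass.coe_pow, ← hx, pow_orderOf_eq_one]; rfl⟩
  rw [e, mem_bot] at h1
  rw [show x = 1 from Subtype.ext h1, orderOf_one] at hx
  exact (Fact.out : s.Prime).ne_one hx.symm

namespace Minimal

omit [Finite G] hp in
/-- A value lying in a maximal member without `r`-core. -/
def QPt (p : ℕ) (A : Subgroup G) (θ : G → Subgroup G) (r : ℕ) (a : G) : Prop :=
  ∃ H, IsMax p A θ H ∧ θ a ≤ H ∧ core r H = ⊥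

omit [Finite G] hp in
/-- Every maximal member has one core and every plane a `q`-point. -/
structure Pure (p : ℕ) (A : Subgroup G) (θ : G → Subgroup G) (q r : ℕ) : Prop where
  two : TwoPrimes A θ q r
  char : ∀ H, IsMax p A θ H → core q H = ⊥ ∨ core r H = ⊥
  meets : ∀ F, IsPlane p A F → ∃ a ∈ F, a ≠ 1 ∧ QPt p A θ r a

variable (h : Minimal p A θ)
include h

variable (c : Pure p A θ q r)
include c

/-- **F-trick.** A part of all pure `q`-cores meets the others trivially. -/
theorem inf_eq_bot_of_core (_hU : U ∈ Cfsg.signalizerFamily p A θ) (hUq : IsPGroup q U)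
    (hUle : ∀ L, IsMax p A θ L → core r L = ⊥ → U ≤ core q L) (hH : IsMax p A θ H)
    (hq0 : core q H = ⊥) : U ⊓ H = ⊥ := by
  haveI := h.fact_q c.two
  haveI := h.fact_r c.two
  have hc : core r H ≤ centralizer ((U ⊓ H : Subgroup G) : Set G) := by
    refine h.member_le_of_planes (h.core_member hH.1) fun F hF => ?_
    obtain ⟨a, haF, ha1, L, hL, hle, hrL⟩ := c.meets F hF
    intro v hv
    refine mem_centralizer_iff.mpr fun u hu => ?_
    have hvL : v ∈ L := hle ((h.core_member hH.1).2.2.2 a (hF.1 haF) ha1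
      ⟨hv.1, centralizer_le (Set.singleton_subset_iff.mpr haF) hv.2⟩)
    have h1 : ⁅u, v⁆ ∈ core r H ⊓ core q L := by
      refine ⟨?_, ?_⟩
      · rw [commutatorElement_def]
        exact (core r H).mul_mem (CfsgLib.Coprime.mem_normalizer_conj (le_normalizer_core hu.2) hv.1)
          ((core r H).inv_mem hv.1)
      · rw [commutatorElement_def, mul_assoc, mul_assoc]
        refine mul_mem (hUle L hL hrL hu.1) ?_
        rw [← mul_assoc]
        exact CfsgLib.Coprime.mem_normalizer_conj (le_normalizer_core hvL) (inv_mem (hUle L hL hrL hu.1))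
    rw [(IsPGroup.disjoint_of_ne r q c.two.ne.symm _ _ isPGroup_core isPGroup_core).eq_bot, mem_bot] at h1
    exact commutatorElement_eq_one_iff_mul_comm.mp h1
  rw [eq_bot_iff, ← hq0]
  intro u hu
  refine mem_core_of_centralizes hH.1.1 hu.2 (hUq.to_le inf_le_left : IsPGroup q ↥(U ⊓ H)) hu fun t ht => ?_
  by_cases htr : t = r
  · exact htr ▸ (le_centralizer_iff.mp hc) hu
  · rw [h.onlyCore_of_eq_bot c.two.symm hH.1 hq0 t ht htr]
    exact le_centralizer_bot (H := U ⊓ H) hu

theorem exists_qType : ∃ H, IsMax p A θ H ∧ core r H = ⊥ := by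
  obtain ⟨F, hF, -⟩ := h.exists_plane_not_le h.inf_member
  obtain ⟨a, -, -, H, hH, -, hr⟩ := c.meets F hF
  exact ⟨H, hH, hr⟩

theorem centre_ne_bot' : centreOf (Top p A θ {q}) ≠ ⊥ := by
  obtain ⟨H, hH, hr⟩ := h.exists_qType c
  exact h.centre_ne_bot c.two hH (h.core_ne_bot_of_eq_bot c.two hH hr)

theorem core_r_eq_bot_of_centre_le (hL : IsMax p A θ L) (hle : centreOf (Top p A θ {q}) ≤ L) :
    core r L = ⊥ := (c.char L hL).resolve_left fun hq0 => h.centre_ne_bot' c (eq_bot_iff.mpr (le_trans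
      (le_inf le_rfl hle) (h.inf_eq_bot_of_core c (h.centre_member c.two)
        ((h.isPGroup_topQ c.two).to_le centreOf_le) (fun _ hL' hr => h.centre_le_core c.two hL' hr) hL hq0).le))

theorem exists_max_ge_topQ : ∃ L, IsMax p A θ L ∧ Top p A θ {q} ≤ L :=
  h.exists_max_ge (h.topQ_isTop c.two).1 (h.topQ_isTop c.two).2.1

theorem kernelTwo_le_topQ : kernelTwo p A θ q ≤ Top p A θ {q} := by
  obtain ⟨L, hL, hle⟩ := h.exists_max_ge_topQ c
  exact (iInf_le (fun L : {L : Subgroup G // IsMax p A θ L ∧ Top p A θ {q} ≤ L} =>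
    core q (L : Subgroup G)) ⟨L, hL, hle⟩).trans (h.core_le_topQ c.two hL)

theorem kernelTwo_isPGroup : IsPGroup q (kernelTwo p A θ q) :=
  (h.isPGroup_topQ c.two).to_le (h.kernelTwo_le_topQ c)

theorem kernelTwo_member : kernelTwo p A θ q ∈ Cfsg.signalizerFamily p A θ :=
  mem_family_of_le (h.topQ_isTop c.two).1 (h.kernelTwo_le_topQ c)
    ((le_iInf fun L : {L : Subgroup G // IsMax p A θ L ∧ Top p A θ {q} ≤ L} =>
      member_normalized (h.core_member L.2.1.1)).trans (iInf_normalizer_le_normalizer_iInf _))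

theorem kernelTwo_tinv :
    Cfsg.signalizerInf A θ ≤ normalizer (kernelTwo p A θ q : Set G) :=
  (le_iInf fun L : {L : Subgroup G // IsMax p A θ L ∧ Top p A θ {q} ≤ L} =>
    h.inf_le_normalizer_core (h.tinv_inf_max L.2.1)).trans (iInf_normalizer_le_normalizer_iInf _)

theorem topQ_le_normalizer_kernelTwo :
    Top p A θ {q} ≤ normalizer (kernelTwo p A θ q : Set G) :=
  (le_iInf fun L : {L : Subgroup G // IsMax p A θ L ∧ Top p A θ {q} ≤ L} =>
    L.2.2.trans le_normalizer_core).trans (iInf_normalizer_le_normalizer_iInf _)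

theorem centre_le_kernelTwo : centreOf (Top p A θ {q}) ≤ kernelTwo p A θ q :=
  le_iInf fun L => h.centre_le_core c.two L.2.1
    (h.core_r_eq_bot_of_centre_le c L.2.1 (centreOf_le.trans L.2.2))

theorem kernelTwo_ne_bot : kernelTwo p A θ q ≠ ⊥ := fun e =>
  h.centre_ne_bot' c (eq_bot_iff.mpr ((h.centre_le_kernelTwo c).trans e.le))

/-- The kernel meets a pure maximal member in its core. -/
theorem kernelTwo_inf_le (hH : IsMax p A θ H) (hr0 : core r H = ⊥)
    (ih : ∀ L, IsMax p A θ L → core r L = ⊥ → Top p A θ {q} ⊓ H < Top p A θ {q} ⊓ L →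
      kernelTwo p A θ q ≤ core q L)
    (hXH : ¬ Top p A θ {q} ≤ H) : kernelTwo p A θ q ⊓ H ≤ core q H := by
  haveI := h.fact_q c.two
  haveI := h.fact_r c.two
  set X := Top p A θ {q}
  set E := kernelTwo p A θ q
  set Y := centreOf X with hY
  set S := X ⊓ H with hS
  set Q := core q H with hQ
  have hX := h.topQ_isTop c.two
  have hXq : IsPGroup q X := h.isPGroup_topQ c.two
  have hSq : IsPGroup q S := hXq.to_le inf_le_left
  have hSm : S ∈ Cfsg.signalizerFamily p A θ := member_inf hX.1 (member_normalized hH.1)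
  have hST : Cfsg.signalizerInf A θ ≤ normalizer (S : Set G) :=
    CfsgLib.Signalizer74.le_normalizer_inf hX.2.1 (h.tinv_inf_max hH)
  have hQS : Q ≤ S := le_inf (h.core_le_topQ c.two hH) core_le
  have hYS : Y ≤ S := (h.centre_le_core c.two hH hr0).trans hQS
  have hS1 : S ≠ ⊥ := fun e => h.centre_ne_bot' c (eq_bot_iff.mpr (hYS.trans e.le))
  have hHN : H ≤ normalizer (Q : Set G) := le_normalizer_core
  have hSN : S ≤ normalizer (Q : Set G) := inf_le_right.trans hHN
  -- the two maximal members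
  set U1 := CfsgLib.PLocal.thompson q S
  have hU1 : U1 ≠ ⊥ := CfsgLib.Transfer.ThompsonNPC.thompson_ne_bot hSq hS1
  have hNU1 : normalizer (S : Set G) ≤ normalizer (U1 : Set G) :=
    CfsgLib.PLocal.normalizer_le_normalizer_thompson q S
  have hU1m : U1 ∈ Cfsg.signalizerFamily p A θ :=
    mem_family_of_le hSm (CfsgLib.PLocal.thompson_le q S) ((member_normalized hSm).trans hNU1)
  obtain ⟨M₁, hM₁, habs₁⟩ := h.exists_max_absorbs hU1m hU1 (hST.trans hNU1)
  have hSM₁ : S ≤ M₁ := habs₁ _ hSm (le_normalizer.trans hNU1)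
  have hrM₁ : core r M₁ = ⊥ := h.core_r_eq_bot_of_centre_le c hM₁ (habs₁ _ (h.centre_member c.two)
    ((inf_le_right.trans (centralizer_le ((CfsgLib.PLocal.thompson_le q S).trans inf_le_left))).trans
      (centralizer_le_normalizer _)))
  have hEM₁ : E ≤ core q M₁ := by
    refine ih M₁ hM₁ hrM₁ (lt_of_le_of_ne (le_inf inf_le_left hSM₁) fun e => ?_)
    have hN : normalizer (S : Set G) ⊓ X ∈ Cfsg.signalizerFamily p A θ := by
      rw [inf_comm]
      exact member_inf hX.1 ((member_normalized hSm).trans le_normalizer)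
    exact normalizer_inf_not_le hXq (lt_of_le_of_ne inf_le_left fun e' : S = X =>
      hXH (e'.ge.trans inf_le_right)) ((le_inf inf_le_right (habs₁ _ hN (inf_le_left.trans hNU1))).trans e.ge)
  set U2 := Cfsg.omegaOne q Y
  have hYq : IsPGroup q Y := hXq.to_le centreOf_le
  have hU2le : U2 ≤ Y := (closure_le _).mpr fun x hx => hx.1
  obtain ⟨M₂, hM₂, habs₂⟩ := h.exists_max_absorbs (mem_family_of_le (h.centre_member c.two) hU2le
    ((member_normalized (h.centre_member c.two)).trans (normalizer_le_normalizer_omegaOne Y)))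
    (omegaOne_ne_bot hYq (h.centre_ne_bot' c))
    ((h.centre_tinv c.two).trans (normalizer_le_normalizer_omegaOne Y))
  have hXM₂ : X ≤ M₂ := habs₂ _ hX.1
    ((le_centralizer_centreOf.trans (centralizer_le hU2le)).trans (centralizer_le_normalizer _))
  have hEM₂ : E ≤ core q M₂ := iInf_le (fun L : {L : Subgroup G // IsMax p A θ L ∧ Top p A θ {q} ≤ L} =>
    core q (L : Subgroup G)) ⟨M₂, hM₂, hXM₂⟩
  -- the group generated by `O_{q,r}(H)` and `S`
  set R := core r (img Q H) with hR
  set P1 := pre Q R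
  set K := S ⊔ P1 with hK
  have hP1H : P1 ≤ H := pre_le_of_le core_le core_le
  have hHP1 : H ≤ normalizer (P1 : Set G) := le_normalizer_pre hHN le_normalizer_core
  have hSP1 : S ≤ normalizer (P1 : Set G) := inf_le_right.trans hHP1
  have hKH : K ≤ H := sup_le inf_le_right hP1H
  have hAQ : A ≤ normalizer (Q : Set G) := (member_normalized hH.1).trans normalizer_le_normalizer_core
  have hAP1 : A ≤ normalizer (P1 : Set G) := le_normalizer_pre hAQ
    ((le_normalizer_img (member_normalized hH.1)).trans normalizer_le_normalizer_core)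
  have hAK : A ≤ normalizer (K : Set G) :=
    (le_inf (member_normalized hSm) hAP1).trans (normalizer_inf_normalizer_le_normalizer_sup _ _)
  have hKm : K ∈ Cfsg.signalizerFamily p A θ := mem_family_of_le hH.1 hKH hAK
  have hQK : Q ≤ K := hQS.trans le_sup_left
  have hinf : P1 ⊓ S = Q := by
    refine le_antisymm (fun x hx => ?_) (le_inf le_pre hQS)
    have h1 : proj Q ⟨x, pre_le hx.1⟩ ∈ R ⊓ img Q S :=
      ⟨(mem_pre (x := ⟨x, pre_le hx.1⟩)).mp hx.1, proj_mem_img hx.2⟩
    rw [(IsPGroup.disjoint_of_ne r q c.two.ne.symm _ _ isPGroup_core (isPGroup_img hSq)).eq_bot, mem_bot] at h1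
    exact proj_eq_one.mp h1
  have hcard : Nat.card K = Nat.card S * Nat.card R := by
    have h1 := CfsgLib.Coprime.card_sup_mul_card_inf hSP1
    rw [hinf, card_pre, ← hK] at h1
    refine Nat.eq_of_mul_eq_mul_right (Nat.card_pos (α := Q)) ?_
    rw [h1]; ring
  have hSK : S ≤ K := le_sup_left
  have hidx : ¬ q ∣ (S.subgroupOf K).index := by
    have h1 := card_mul_index (S.subgroupOf K)
    rw [CfsgLib.Coprime.card_subgroupOf hSK, hcard] at h1
    rw [Nat.eq_of_mul_eq_mul_left Nat.card_pos h1]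
    exact not_dvd_of_isPGroup isPGroup_core c.two.ne
  set Sy : Sylow q K := (hSq.comap_subtype : IsPGroup q (S.subgroupOf K)).toSylow hidx with hSy
  have hO : Cfsg.pPrimeCore q ↥K = ⊥ := by
    rw [← map_eq_bot_iff_of_injective _ K.subtype_injective]
    show core' q K = ⊥
    set W := core' q K
    have hWQ : W ⊓ Q = ⊥ := by
      rw [inf_comm]
      exact CfsgLib.PCore.inf_eq_bot_of_isPGroup_coprime isPGroup_core
        (CfsgLib.PCore.coprime_of_not_dvd_card not_dvd_core')
    have hWc : W ≤ centralizer (Q : Set G) := le_centralizer_of_inf_eq_bot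
      (core'_le.trans (hKH.trans hHN)) (hQK.trans le_normalizer_core') hWQ
    have hWle : W ≤ Q := fun w hw => by
      refine (iSup_le fun t : Nat.Primes => ?_ : (⨆ t : Nat.Primes, core (t : ℕ) H) ≤ Q)
        (mem_iSup_core hH.1.1 (hKH (core'_le hw)) fun t ht => ?_)
      · by_cases htq : (t : ℕ) = q
        · rw [htq]
        · rw [h.onlyCore_of_eq_bot c.two hH.1 hr0 t t.2 htq]; exact bot_le
      · by_cases htq : t = q
        · exact htq ▸ hWc hw
        · rw [h.onlyCore_of_eq_bot c.two hH.1 hr0 t ht htq]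
          exact le_centralizer_bot (H := W) hw
    rwa [inf_eq_left.mpr hWle] at hWQ
  haveI : Group.IsSolvable K := hKm.1
  have hgen := Cfsg.Agent.S0620.result (p := q) (q := p) K A hAK h.elem hKm.2.1
    CfsgLib.PCore.isPSolvable_of_isSolvable hO Sy
  have hK12 : K ≤ (K ⊓ M₁) ⊔ (K ⊓ M₂) := by
    set T' := ((K ⊓ M₁) ⊔ (K ⊓ M₂)).subgroupOf K
    suffices h1 : T' = ⊤ by
      intro x hx
      exact mem_subgroupOf.mp (h1 ▸ Subgroup.mem_top (⟨x, hx⟩ : K))
    rw [eq_top_iff, ← hgen]
    refine sup_le (sup_le (fun x hx => ?_) fun x hx => ?_) fun x hx => ?_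
    · refine mem_subgroupOf.mpr (mem_sup_left ⟨x.2, ?_⟩)
      rw [CfsgLib.PLocal.thompsonSubgroupOf_eq] at hx
      have h1 : (x : G) ∈ normalizer (U1 : Set G) := by
        have h2 := le_normalizer_map K.subtype (mem_map_of_mem K.subtype hx)
        rw [← CfsgLib.PLocal.thompson_map K.subtype_injective] at h2
        rwa [show ((Sy : Subgroup K)).map K.subtype = S from map_subgroupOf_eq_of_le hSK] at h2
      exact habs₁ _ (member_inf hKm ((member_normalized hU1m).trans le_normalizer)) inf_le_right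
        ⟨x.2, h1⟩
    · refine mem_subgroupOf.mpr (mem_sup_right ⟨x.2, ?_⟩)
      have h1 : (x : G) ∈ centralizer (U2 : Set G) := by
        have h2 : U2 ≤ centralizer ({(x : G)} : Set G) := (closure_le _).mpr fun y hy =>
          mem_centralizer_singleton_iff.mpr (by
            have hyS : y ∈ S := hYS hy.1
            refine congrArg Subtype.val (mem_centralizer_iff.mp hx (⟨y, hSK hyS⟩ : K)
              (subset_closure ⟨⟨hyS, mem_centralizer_iff.mpr fun z hz => Subtype.ext ?_⟩,
                Subtype.ext hy.2⟩))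
            exact mem_centralizer_iff.mp hy.1.2 z (mem_subgroupOf.mp (hz : z ∈ S.subgroupOf K)).1)
        exact mem_centralizer_iff.mpr fun y hy => mem_centralizer_singleton_iff.mp (h2 hy)
      exact habs₂ _ (h.member_centralizer hKm ((member_normalized (h.centre_member c.two)).trans
        (normalizer_le_normalizer_omegaOne Y))) (inf_le_right.trans (centralizer_le_normalizer _)) ⟨x.2, h1⟩
    · exact mem_subgroupOf.mpr (mem_sup_right ⟨x.2,
        hM₂.2.1 (member_inf_centralizer_le hKm ⟨x.2, mem_subgroupOf.mp hx⟩)⟩)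
  -- every element of `O_{q,r}(H)/Q` commutes with the kernel
  set C := R ⊓ centralizer (img Q (E ⊓ H) : Set (NQ Q))
  have hES : E ⊓ H ≤ S := inf_le_inf_right _ (h.kernelTwo_le_topQ c)
  have hSE : S ≤ normalizer ((E ⊓ H : Subgroup G) : Set G) := CfsgLib.Signalizer74.le_normalizer_inf
    (inf_le_left.trans (h.topQ_le_normalizer_kernelTwo c)) (inf_le_right.trans le_normalizer)
  have hSC : S ≤ normalizer (pre Q C : Set G) := le_normalizer_pre hSN
    (CfsgLib.Signalizer74.le_normalizer_inf ((img_mono inf_le_right).trans le_normalizer_core)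
      ((le_normalizer_img hSE).trans normalizer_le_normalizer_centralizer'))
  have hpart : ∀ L, IsMax p A θ L → S ≤ L → E ≤ core q L → K ⊓ L ≤ S ⊔ pre Q C := by
    intro L hL hSL hEL z hz
    obtain ⟨s, hs, ρ, hρ, rfl⟩ := CfsgLib.Coprime.exists_mul_of_mem_sup hSP1 hz.1
    have hρL : ρ ∈ L := by simpa using L.mul_mem (L.inv_mem (hSL hs)) hz.2
    refine mul_mem_sup hs ((mem_pre (x := ⟨ρ, pre_le hρ⟩)).mpr
      ⟨mem_pre.mp hρ, mem_centralizer_iff.mpr fun w hw => ?_⟩)
    obtain ⟨e, he, rfl⟩ := mem_img.mp hw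
    set ρ' : ↥(normalizer (Q : Set G)) := ⟨ρ, pre_le hρ⟩
    have h1 : proj Q ⁅e, ρ'⁆ ∈ R ⊓ img Q (core q L ⊓ H) := by
      refine ⟨?_, proj_mem_img ⟨?_, ?_⟩⟩
      · rw [map_commutatorElement, commutatorElement_def]
        exact R.mul_mem (CfsgLib.Coprime.mem_normalizer_conj (le_normalizer_core (proj_mem_img he.2))
          (mem_pre.mp hρ)) (R.inv_mem (mem_pre.mp hρ))
      · show (e : G) * ρ * (e : G)⁻¹ * ρ⁻¹ ∈ core q L
        rw [mul_assoc, mul_assoc]
        refine mul_mem (hEL he.1) ?_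
        rw [← mul_assoc]
        exact CfsgLib.Coprime.mem_normalizer_conj (le_normalizer_core hρL) (inv_mem (hEL he.1))
      · show (e : G) * ρ * (e : G)⁻¹ * ρ⁻¹ ∈ H
        exact H.mul_mem (H.mul_mem (H.mul_mem he.2 (hP1H hρ)) (H.inv_mem he.2)) (H.inv_mem (hP1H hρ))
    rw [(IsPGroup.disjoint_of_ne r q c.two.ne.symm _ _ isPGroup_core
      (isPGroup_img (isPGroup_core.to_le inf_le_left))).eq_bot, mem_bot, map_commutatorElement] at h1
    exact commutatorElement_eq_one_iff_mul_comm.mp h1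
  have hRC : img Q (E ⊓ H) ≤ centralizer (R : Set (NQ Q)) := by
    refine le_centralizer_iff.mp fun w hw => ?_
    obtain ⟨z, hz, rfl⟩ := mem_img.mp (core_le hw)
    have hzP : (z : G) ∈ P1 := mem_pre.mpr hw
    obtain ⟨s, hs, ρ, hρ, he⟩ := CfsgLib.Coprime.exists_mul_of_mem_sup hSC
      (sup_le (hpart M₁ hM₁ hSM₁ hEM₁) (hpart M₂ hM₂ (inf_le_left.trans hXM₂) hEM₂)
        (hK12 (mem_sup_right hzP)))
    have hρP : ρ ∈ P1 := (mem_pre (x := ⟨ρ, pre_le hρ⟩)).mpr (mem_pre (x := ⟨ρ, pre_le hρ⟩) |>.mp hρ).1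
    have hsQ : s ∈ Q := hinf.le ⟨by
      have h1 := P1.mul_mem hzP (P1.inv_mem hρP)
      rwa [he, mul_inv_cancel_right] at h1, hs⟩
    have hz' : proj Q z = proj Q ⟨ρ, pre_le hρ⟩ := by
      rw [show z = ⟨s, le_normalizer hsQ⟩ * (⟨ρ, pre_le hρ⟩ : ↥(normalizer (Q : Set G))) from
        Subtype.ext he, map_mul, proj_eq_one.mpr (show ((⟨s, le_normalizer hsQ⟩ :
          ↥(normalizer (Q : Set G))) : G) ∈ Q from hsQ), one_mul]
    rw [hz']
    exact ((mem_pre (x := ⟨ρ, pre_le hρ⟩)).mp hρ).2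
  refine (img_eq_bot ((inf_le_right : E ⊓ H ≤ H).trans hHN)).mp (eq_bot_iff.mpr fun x hx => ?_)
  rw [← core_img_eq_bot (q := q) (M := H)]
  refine mem_core_of_centralizes (isSolvable_img hH.1.1) (img_mono inf_le_right hx)
    (isPGroup_img ((h.kernelTwo_isPGroup c).to_le inf_le_left) : IsPGroup q (img Q (E ⊓ H))) hx
    fun t ht => ?_
  haveI := Fact.mk ht
  by_cases htq : t = q
  · subst htq
    rw [core_img_eq_bot]
    exact le_centralizer_bot (H := img Q (E ⊓ H)) hx
  by_cases htr : t = r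
  · subst htr
    exact hRC hx
  rw [CfsgLib.PCore.eq_bot_of_isPGroup_coprime (isPGroup_core : IsPGroup t (core t (img Q H)))
    (CfsgLib.PCore.coprime_of_not_dvd_card fun hd => (c.two.only t (h.prime_mem ht hH.1
      ((hd.trans (card_dvd_of_le core_le)).trans (card_img_dvd hHN)))).elim htq htr)]
  exact le_centralizer_bot (H := img Q (E ⊓ H)) hx

/-- The kernel lies in all pure `q`-cores. -/
theorem kernelTwo_le_core (hH : IsMax p A θ H) (hr0 : core r H = ⊥) :
    kernelTwo p A θ q ≤ core q H := by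
  haveI := h.fact_q c.two
  generalize hS : Top p A θ {q} ⊓ H = S
  induction S using (wellFounded_gt (α := Subgroup G)).induction generalizing H with
  | _ S ih =>
  by_cases hXH : Top p A θ {q} ≤ H
  · exact iInf_le (fun L : {L : Subgroup G // IsMax p A θ L ∧ Top p A θ {q} ≤ L} =>
      core q (L : Subgroup G)) ⟨H, hH, hXH⟩
  have hinf := h.kernelTwo_inf_le c hH hr0 (fun L hL hrL hlt => ih _ (hS ▸ hlt) hL hrL rfl) hXH
  set E := kernelTwo p A θ q
  set Q := core q H with hQ
  by_contra hle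
  have hQX : Q ≤ Top p A θ {q} := h.core_le_topQ c.two hH
  have hQE : Q ≤ normalizer (E : Set G) := hQX.trans (h.topQ_le_normalizer_kernelTwo c)
  refine normalizer_inf_not_le ((h.isPGroup_topQ c.two).to_le
    (sup_le hQX (h.kernelTwo_le_topQ c)) : IsPGroup q ↥(Q ⊔ E))
    (lt_of_le_of_ne le_sup_left fun e => hle (le_sup_right.trans e.ge)) ?_
  have hEm := h.kernelTwo_member c
  have hQm := h.core_member (r := q) hH.1
  have hmem : normalizer (Q : Set G) ⊓ (Q ⊔ E) ∈ Cfsg.signalizerFamily p A θ :=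
    mem_family_of_le (sup_mem_family h.elem hEm hQm hQE) (inf_le_right.trans (le_of_eq (sup_comm _ _)))
      (CfsgLib.Signalizer74.le_normalizer_inf ((member_normalized hQm).trans le_normalizer)
        ((le_inf (member_normalized hQm) (member_normalized hEm)).trans
          (normalizer_inf_normalizer_le_normalizer_sup _ _)))
  have hleH := h.le_max_of_core hH (h.core_ne_bot_of_eq_bot c.two hH hr0) hmem inf_le_left
  intro x hx
  obtain ⟨a, ha, e, he, rfl⟩ := CfsgLib.Coprime.exists_mul_of_mem_sup hQE hx.2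
  have heH : e ∈ H := by simpa using H.mul_mem (H.inv_mem (core_le ha)) (hleH hx)
  exact Q.mul_mem ha (hinf ⟨he, heH⟩)

theorem kernelTwo_inf_eq_bot (hH : IsMax p A θ H) (hq0 : core q H = ⊥) :
    kernelTwo p A θ q ⊓ H = ⊥ :=
  h.inf_eq_bot_of_core c (h.kernelTwo_member c) (h.kernelTwo_isPGroup c)
    (fun _ hL hr => h.kernelTwo_le_core c hL hr) hH hq0

end Minimal

end CfsgLib.Signalizer74
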